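import Cfsg.Agent.Lib.U3.Odd4

/-! O'Nan's theorem, part 5: identification with `PSU₃(q)`. -/

set_option autoImplicit false
set_option linter.unusedSectionVars false

namespace Cfsg.Lib.OU

open Subgroup Cfsg.Lib.Invol Cfsg.Lib.Transfer Cfsg.Lib.BS Cfsg.Lib.Forms Cfsg.Lib.U3 MulAction
open scoped commutatorElement

theorem biadd_zero {E : Type*} [Field E] {σ : E →+* E} {q : ℕ} (c : IsConj σ q) (two : (2 : E) ≠ 0) (δ : E →+ E →+ E)
    (h0 : ∀ a, δ a a = 0) (h1 : ∀ a κ, σ κ = -κ → δ (κ * a) a = 0) (a b : E) : δ a b = 0 := by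
  have h2 : ∀ κ, σ κ = -κ → δ (κ * κ * b) b = 0 := fun κ hκ => by
    simpa [mul_add, h0, h1 _ κ hκ, mul_assoc] using h1 (κ * b + b) κ hκ
  by_cases b0 : b = 0
  · simp [b0]
  obtain ⟨θ, θ0, hθ⟩ := c.exists_trace_zero
  have a1 : σ θ = -θ := by linear_combination hθ
  have a2 : σ ((a / b + σ (a / b)) / (4 * θ)) = -((a / b + σ (a / b)) / (4 * θ)) := by
    rw [map_div₀, map_add, c.σσ, map_mul, a1, map_ofNat, mul_neg, div_neg, add_comm]
  have a3 := h2 (θ + (a / b + σ (a / b)) / (4 * θ)) (by rw [map_add, a1, a2, neg_add])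
  have a4 := h1 b ((a / b - σ (a / b)) / 2) (by rw [map_div₀, map_sub, c.σσ, map_ofNat, ← neg_div, neg_sub])
  have four : (4 : E) ≠ 0 := by rw [show (4 : E) = 2 * 2 by norm_num]; exact mul_ne_zero two two
  rw [show ∀ x, (θ + x) * (θ + x) * b = θ * θ * b + x * x * b + 2 * θ * x * b from fun x => by ring, map_add, map_add,
    AddMonoidHom.add_apply, AddMonoidHom.add_apply, h2 θ a1, h2 _ a2, zero_add, zero_add] at a3
  have a5 := congrArg₂ (· + ·) a3 a4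
  simp only [← AddMonoidHom.add_apply, ← map_add, add_zero] at a5
  rw [← a5]; congr 2; field_simp; ring

variable {G : Type*} [Group G] [Finite G]

namespace OW

variable {B Q D : Subgroup G} {i t : G} {p n : ℕ} {f η g : G → G} {E : Type} [Field E] {σ : E →+* E}
  {ρ l v : G → E} (h : OW B Q D i t p n f η g σ ρ l v)
include h

theorem smul {c : E} (hc : c ≠ 0) : OW B Q D i t p n f η g σ (fun x => c * ρ x) l v :=
  { h with sec := h.sec.smul hc, vQ := fun x hx h0 => by linear_combination c * h.vQ x hx h0 }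

theorem exists_norm : ∃ e : E, e ≠ 0 ∧ ∀ x ∈ Q, v x + σ (v x) + e * ρ x * σ (e * ρ x) = 0 := by
  have σσ := h.cj.σσ
  obtain ⟨τ, hτ⟩ := h.sec.descend (fun x => v x + σ (v x)) fun x hx z hz => by
    rw [← (h.CZ hz hx).eq, h.vadd hz hx, map_add, h.σv hz]; ring
  have a0 : ∀ a, σ (τ a) = τ a := fun a => by
    obtain ⟨x, hx, rfl⟩ := h.sec.surj a; rw [hτ x hx, map_add, σσ, add_comm]
  have a1 : ∀ a, a ≠ 0 → τ a ≠ 0 := fun a a0 => by
    obtain ⟨x, hx, rfl⟩ := h.sec.surj a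
    obtain ⟨c, hc, y, hy, rfl⟩ := h.dQ hx
    rw [h.sec.mul_left hc hy.1] at a0 ⊢
    rw [hτ y hy.1, (h.vY hy).1, ← two_mul]
    exact mul_ne_zero h.two (h.v0 hy.1 fun e => a0 (e ▸ h.sec.one))
  have a2 : ∀ s a, s ≠ 0 → σ s = s → τ (s * a) = s * s * τ a := fun s a s0 hs => by
    obtain ⟨x, hx, rfl⟩ := h.sec.surj a
    obtain ⟨k, hk, rfl, e⟩ := h.real_K s0 hs
    rw [← h.sec.conj k hk x hx, hτ _ (h.cd hk hx), hτ x hx, h.v_conj hk hx, e, inv_inv, h.sec.χ_mul hk hk, map_mul,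
      map_mul, hs]; ring
  have a3 : ∀ a w, a ≠ 0 → w + σ w ≠ 0 → τ (a / w) * (w * σ w) = τ a := fun a w ha hw => by
    obtain ⟨x, hx, rfl⟩ := h.sec.surj a
    have s0 := div_ne_zero (a1 _ ha) hw
    have hs : σ (τ (ρ x) / (w + σ w)) = τ (ρ x) / (w + σ w) := by rw [map_div₀, a0, map_add, σσ, add_comm]
    obtain ⟨z, hz, e⟩ := h.v_surj (κ := τ (ρ x) / (w + σ w) * w - v x) (by
      rw [map_sub, map_mul, hs]; linear_combination div_mul_cancel₀ (τ (ρ x)) hw + hτ x hx)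
    have h1 := mul_mem hz.1 hx
    have h2 : z * x ≠ 1 := fun e => ha (by rw [← h.sec.mul_left hz hx, e, h.sec.one])
    have h3 := h.vρ h1 h2
    have h4 := h.vf h1 h2
    have h5 := congrArg σ h4
    have h6 := hτ _ h1
    rw [h.sec.mul_left hz hx] at h3 h6
    rw [h.vadd hz hx, e, sub_add_cancel] at h3 h4 h5 h6
    rw [map_mul, map_mul, hs, map_one] at h5
    rw [map_mul, hs] at h6
    have w0 : w ≠ 0 := fun e => hw (by simp [e])
    generalize τ (ρ x) / (w + σ w) = s at *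
    rw [show ρ x / w = -s * ρ (f (z * x)) by rw [div_eq_iff w0]; linear_combination h3, a2 _ _ (neg_ne_zero.2 s0)
      (by rw [map_neg, hs]), hτ _ (h.fQ h1 h2), h6]
    linear_combination s * σ w * h4 + s * w * h5
  have a4 : ∀ b, b + σ b ≠ 0 → τ b = b * σ b * τ 1 := fun b hb => by
    have b0 : b ≠ 0 := fun e => hb (by simp [e])
    rw [← a3 b b b0 hb, div_self b0, mul_comm]
  obtain ⟨e, he⟩ := h.cj.exists_norm_eq (a := -τ 1) (by rw [map_neg, a0])
  refine ⟨e, fun e0 => a1 1 one_ne_zero (by simpa [e0] using he), fun x hx => ?_⟩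
  suffices τ (ρ x) = ρ x * σ (ρ x) * τ 1 by rw [map_mul]; linear_combination this - hτ x hx + ρ x * σ (ρ x) * he
  by_cases h0 : x ∈ Q ⊓ Ce i
  · rw [hτ x hx, h.σv h0, h.sec.zero h0]; ring
  have b0 := h.ρ0 hx h0
  generalize ρ x = b at *
  by_contra hb
  have hb' : σ b = -b := by linear_combination by_contra fun e => hb (a4 b e)
  have c1 : 1 + b + σ (1 + b) ≠ 0 := by rw [map_add, map_one, hb']; convert h.two using 1; ring
  have c2 : 1 + b ≠ 0 := fun e => c1 (by simp [e])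
  have c3 := a3 _ _ (mul_ne_zero b0 c2) c1
  rw [mul_div_cancel_right₀ _ c2, a4 (b * (1 + b)) (by
    rw [map_mul, map_add, map_one, hb']; convert mul_ne_zero h.two (mul_ne_zero b0 b0) using 1; ring), map_mul] at c3
  exact hb (mul_right_cancel₀ (mul_ne_zero c2 ((map_ne_zero σ).2 c2)) (by linear_combination c3))

theorem v_inv {x : G} (hx : x ∈ Q) : v x⁻¹ = σ (v x) := by
  obtain ⟨c, hc, y, hy, rfl⟩ := h.dQ hx
  rw [mul_inv_rev, ← (h.CZ (inv_mem hc) (inv_mem hy.1)).eq, h.vadd (inv_mem hc) (inv_mem hy.1), h.vadd hc hy.1, map_add,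
    h.σv hc, h.v_invC hc, (h.vY hy).1, ← hy.2, h.vi hy.1]

variable (hN : ∀ x ∈ Q, v x + σ (v x) + ρ x * σ (ρ x) = 0)
include hN

theorem v_mul {x y : G} (hx : x ∈ Q) (hy : y ∈ Q) : v (x * y) = v x + v y - σ (ρ x) * ρ y := by
  have σσ := h.cj.σσ
  have cm : ∀ x ∈ Q, ∀ y ∈ Q, ⁅x, y⁆ ∈ Q ⊓ Ce i := fun x hx y hy => h.sec.comm_mem hx hy
  have b1 : ∀ x ∈ Q, ∀ y ∈ Q, ∀ z ∈ Q, v ⁅x * y, z⁆ = v ⁅x, z⁆ + v ⁅y, z⁆ := fun x hx y hy z hz => by
    rw [show ⁅x * y, z⁆ = x * ⁅y, z⁆ * x⁻¹ * ⁅x, z⁆ by group, ← (h.CZ (cm y hy z hz) hx).eq, mul_inv_cancel_right,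
      h.vadd (cm y hy z hz) (cm x hx z hz).1, add_comm]
  have b2 : ∀ x ∈ Q, ∀ y ∈ Q, v ⁅x, y⁆ = -v ⁅y, x⁆ := fun x hx y hy => by
    rw [← commutatorElement_inv, h.v_invC (cm y hy x hx)]
  obtain ⟨β, hβ⟩ := h.sec.descend₂ h.sec (fun x y => v ⁅x, y⁆) b1
    (fun y hy z hz => by rw [(h.CZ hy hz).commutator_eq, h.v1])
    (fun x hx y hy z hz => by rw [b2 x hx _ (mul_mem hy hz), b1 y hy z hz x hx, b2 x hx y hy, b2 x hx z hz, neg_add])
    fun x hx z hz => by rw [(h.CZ hz hx).symm.commutator_eq, h.v1]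
  let δ : E →+ E →+ E := β + (AddMonoidHom.mul.comp σ.toAddMonoidHom - (AddMonoidHom.mul.comp σ.toAddMonoidHom).flip)
  have hδ : ∀ a b, δ a b = β a b + (σ a * b - σ b * a) := fun _ _ => rfl
  have key : ∀ x ∈ Q, ∀ y ∈ Q, 2 * (v (x * y) - (v x + v y - σ (ρ x) * ρ y)) = δ (ρ x) (ρ y) := fun _ hx0 _ hy0 => by
    obtain ⟨c, hc, x, hx, rfl⟩ := h.dQ hx0
    obtain ⟨d, hd, y, hy, rfl⟩ := h.dQ hy0
    have a1 := h.vi (mul_mem hx.1 hy.1)
    rw [← conj_mul, hx.2, hy.2, ← mul_inv_rev, h.v_inv (mul_mem hy.1 hx.1)] at a1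
    have a2 := h.vadd (cm x hx.1 y hy.1) (mul_mem hy.1 hx.1)
    rw [show ⁅x, y⁆ * (y * x) = x * y by group] at a2
    have a3 := hN _ (mul_mem hy.1 hx.1)
    have a4 := hN x hx.1
    have a5 := hN y hy.1
    rw [(h.vY hx).1] at a4
    rw [(h.vY hy).1] at a5
    rw [h.sec.add y hy.1 x hx.1, map_add] at a3
    rw [mul_assoc, ← mul_assoc x, ← (h.CZ hd hx.1).eq, mul_assoc, h.vadd hc (mul_mem hd.1 (mul_mem hx.1 hy.1)),
      h.vadd hd (mul_mem hx.1 hy.1), h.vadd hc hx.1, h.vadd hd hy.1, h.sec.mul_left hc hx.1, h.sec.mul_left hd hy.1, hδ,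
      hβ x hx.1 y hy.1]
    linear_combination a2 - a1 + a3 - a4 - a5
  have d0 : ∀ a, δ a a = 0 := fun a => by
    obtain ⟨x, hx, rfl⟩ := h.sec.surj a
    rw [hδ, hβ x hx x hx, commutatorElement_self, h.v1]; ring
  have d1 : ∀ k ∈ D, ∀ a b, δ (l k * a) (l k * b) = l (k * (t * k * t)⁻¹) * δ a b := fun k hk a b => by
    obtain ⟨x, hx, rfl⟩ := h.sec.surj a
    obtain ⟨y, hy, rfl⟩ := h.sec.surj b
    obtain ⟨w, hw, e⟩ := h.sec.surj 1
    have a1 := hN _ (h.cd hk hw)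
    have a2 := hN w hw
    rw [h.v_conj hk hw, h.sec.conj k hk w hw, map_mul, h.ν_real hk, e, mul_one] at a1
    rw [e, map_one] at a2
    rw [← h.sec.conj k hk x hx, ← h.sec.conj k hk y hy, ← key x hx y hy, ← key _ (h.cd hk hx) _ (h.cd hk hy), conj_mul,
      h.v_conj hk hx, h.v_conj hk hy, h.v_conj hk (mul_mem hx hy), h.sec.conj k hk x hx, h.sec.conj k hk y hy, map_mul]
    linear_combination 2 * σ (ρ x) * ρ y * (a1 - l (k * (t * k * t)⁻¹) * a2)
  have d2 : ∀ w ∈ Q, w ≠ 1 → f w = w → ∀ z ∈ Q ⊓ Ce i, δ (ρ w) (ρ (f (z * w))) = 0 := fun w hw w1 e z hz => by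
    obtain ⟨y1, y2, y3⟩ := h.fixY hw w1 e
    have w0 : w ∉ Q ⊓ Ce i := fun e1 => h.notC e1 w1 e
    have hu := mul_mem hz.1 hw
    have u1 := h.ne1 (h.mulC hz w0)
    have hf := h.fQ hu u1
    have a0 := h.ρ0 hw w0
    have a1 := y3 z hz
    have a2 := h.v_fix hw w1 e hz
    have a3 := h.v_fix hw w1 e (one_mem _)
    rw [one_mul, h.v1] at a3
    have a4 := hN w hw
    have a5 := h.vf hu u1
    have tr : ∀ m : E, σ m = m → m ≠ 0 → m - v z ≠ 0 := fun m hm m0 e => mul_ne_zero h.two m0 (by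
      have := congrArg σ e; rw [map_sub, hm, h.σv hz, map_zero] at this; linear_combination this + e)
    have a6 : ρ (w * f (z * w)) ≠ 0 := fun e => mul_ne_zero a0 (tr 2 (map_ofNat σ 2) h.two) (by
      rw [h.sec.add w hw _ hf] at e; linear_combination (1 - v z) * e - a1)
    have a7 : w * f (z * w) ≠ 1 := fun e => a6 (e ▸ h.sec.one)
    have a8 := h.rel_i hw w1 (h.fix_η hw w1 e) hu u1 (y2.symm ▸ a7)
    have a9 := h.vρ (mul_mem hw hf) a7
    have b1 : Yi Q i (w * w) := ⟨mul_mem hw hw, by rw [← conj_mul, y1.2, mul_inv_rev]⟩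
    have b2 := hN _ b1.1
    have b3 := h.vρ (mul_mem hz.1 b1.1) fun e => mul_ne_zero h.two a0 (by
      rw [two_mul, ← h.sec.add w hw w hw, ← h.sec.mul_left hz b1.1, e, h.sec.one])
    rw [(h.vY b1).2 z hz, h.sec.mul_left hz b1.1, h.sec.add w hw w hw] at b3
    rw [(h.vY b1).1, h.sec.add w hw w hw, map_add] at b2
    rw [y2, e, ← mul_assoc, ← (h.CZ hz hw).eq, mul_assoc] at a8
    rw [(h.vY y1).1, a3] at a4
    rw [h.sec.add w hw _ hf] at a9
    rw [a2] at a5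
    have b4 : v (w * w) = -4 := mul_left_cancel₀ h.two (by linear_combination b2 - 4 * a4)
    have b5 : v (w * f (z * w)) * (1 - v z) = v z - 4 := mul_left_cancel₀ (mul_ne_zero a0 (tr 2 (map_ofNat σ 2) h.two)) (by
      rw [a8, b4] at b3
      linear_combination (v z - 4) * a1 - (1 - v z) * v (w * f (z * w)) * b3 - (v z - 4) * (1 - v z) * a9)
    rw [← key w hw _ hf, a3]
    refine mul_eq_zero_of_right _ (mul_right_cancel₀ (tr 1 (map_one σ) one_ne_zero) ?_)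
    linear_combination b5 + a5 + σ (ρ w) * a1 + a4
  rw [← sub_eq_zero, ← mul_eq_zero_iff_left h.two, key x hx y hy]
  refine biadd_zero h.cj h.two δ d0 (fun b κ hκ => ?_) _ _
  obtain ⟨x, hx, e⟩ := h.sec.surj ((1 - κ) * b)
  obtain ⟨c, hc, y, hy, rfl⟩ := h.dQ hx
  rw [h.sec.mul_left hc hy.1] at e
  have k1 : 1 - κ ≠ 0 := fun e => h.cube hκ (by rw [← sub_eq_zero.1 e]; ring)
  by_cases y1 : y = 1
  · rw [y1, h.sec.one, eq_comm, mul_eq_zero_iff_left k1] at e; simp [e]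
  obtain ⟨k, hk, w, hw, w1, e1, rfl⟩ := h.exists_fix hy y1
  obtain ⟨z, hz, rfl⟩ := h.v_surj hκ
  have a1 := d1 k hk (ρ w) (ρ (f (z * w)))
  rw [h.sec.conj k hk w hw] at e
  rw [d2 w hw w1 e1 z hz, mul_zero, show l k * ρ (f (z * w)) = b from mul_left_cancel₀ k1 (by
    linear_combination e + l k * (h.fixY hw w1 e1).2.2 z hz), e, sub_mul, one_mul, map_sub, AddMonoidHom.sub_apply, d0,
    zero_sub, neg_eq_zero] at a1
  exact a1

theorem iso [Fintype E] (hgen : Q ⊔ zpowers t = ⊤) : Nonempty (G ≃* Cfsg.PSU 3 E (p ^ n)) := by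
  have c := h.cj
  let κ₀ : Q →* Heis c := MonoidHom.mk' (fun y => ⟨ρ y, v y, hN y y.2⟩)
    fun x y => Heis.ext (h.sec.add _ x.2 _ y.2) (h.v_mul hN x.2 y.2)
  let κ : Q ≃* Heis c := MulEquiv.ofBijective κ₀ ((Nat.bijective_iff_injective_and_card _).2
    ⟨(injective_iff_map_eq_one _).2 fun y e => Subtype.ext (by_contra fun e1 => h.v0 y.2 e1 (congrArg Heis.b e)), by
      rw [h.cQ, Heis.card]; ring⟩)
  let e₀ : Pt c → G ⧸ B := fun ω => ω.elim ((1 : G) : G ⧸ B) fun x => ((κ.symm x * t : G) : G ⧸ B)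
  have e1 : e₀ none = ((1 : G) : G ⧸ B) := rfl
  have e2 : ∀ y : Q, e₀ (some (κ y)) = ((y * t : G) : G ⧸ B) := fun y => by simp [e₀]
  let e : Pt c ≃ G ⧸ B := Equiv.ofBijective e₀ ⟨fun ω ω' => by
      rcases ω with _ | x <;> rcases ω' with _ | y
      · exact fun _ => rfl
      · exact fun e => absurd e.symm (h.pt_ne (κ.symm y).2)
      · exact fun e => absurd e (h.pt_ne (κ.symm x).2)
      · exact fun e => congrArg some (κ.symm.injective (Subtype.ext (h.pt_inj (κ.symm x).2 (κ.symm y).2 e))), fun ω => by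
      rcases h.pts ω with rfl | ⟨y, hy, rfl⟩
      exacts [⟨none, rfl⟩, ⟨some (κ ⟨y, hy⟩), e2 _⟩]⟩
  let φ : G →* Equiv.Perm (Pt c) := e.symm.permCongrHom.toMonoidHom.comp (MulAction.toPermHom G (G ⧸ B))
  let ψ := MulAction.toPermHom (SU3 c) (Pt c)
  have hφ : Function.Injective φ := e.symm.permCongrHom.injective.comp
    ((MonoidHom.ker_eq_bot_iff _).1 (B.normalCore_eq_ker ▸ h.core))
  have key : ∀ (g : G) (k : SU3 c), g • e₀ none = e₀ (k • none) →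
      (∀ y : Q, g • e₀ (some (κ y)) = e₀ (k • some (κ y))) → φ g = ψ k := fun g k h1 h3 =>
    Equiv.ext fun ω => (Equiv.symm_apply_eq e).2 <| by
      rcases ω with _ | x
      · exact h1
      · obtain ⟨y, rfl⟩ := κ.surjective x
        exact h3 y
  have k1 : ∀ y : Q, φ y = ψ (nn c (κ y)) := fun y => key _ _ (by rw [nn_smul_none, e1]; exact h.smul_one (h.QB y.2))
    fun z => by rw [nn_smul_some, ← map_mul, e2, e2, MulAction.Quotient.smul_mk, smul_eq_mul, coe_mul, mul_assoc]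
  have k2 : φ t = ψ (ww c) := key _ _
    (by rw [ww_smul_none, ← map_one κ, e1, e2, MulAction.Quotient.smul_mk]; simp) fun z => by
      by_cases hz : z = 1
      · rw [hz, e2, map_one, ww_smul_one, e1, MulAction.Quotient.smul_mk]; simp [h.t2]
      have z1 : (z : G) ≠ 1 := by simpa using hz
      have v0 := h.v0 z.2 z1
      rw [ww_smul_some (x := κ z) (y := κ ⟨_, h.fQ z.2 z1⟩) v0 ?_ (eq_inv_of_mul_eq_one_left (h.vf z.2 z1)), e2, e2]
      · refine QuotientGroup.eq.2 ?_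
        change (t * (z * t))⁻¹ * _ ∈ B
        rw [← mul_assoc t, h.fm z.2 z1]
        simpa [mul_assoc] using mul_mem (inv_mem (h.QB (h.gQ z.2 z1))) (inv_mem (h.DB (h.ηD z.2 z1)))
      · change ρ (f z) = -(ρ z / v z)
        rw [← neg_div, eq_div_iff v0, mul_comm, h.vρ z.2 z1]
  have hr : φ.range = ψ.range := by
    refine le_antisymm ?_ ?_
    · rw [MonoidHom.range_eq_map, map_le_iff_le_comap, ← hgen]
      exact sup_le (fun y hy => ⟨_, (k1 ⟨y, hy⟩).symm⟩) (zpowers_le.2 ⟨_, k2.symm⟩)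
    · rw [MonoidHom.range_eq_map ψ, map_le_iff_le_comap]
      refine (eq_top_of_mem c (M := φ.range.comap ψ) (by have := h.q3; omega) (fun x => ?_) ⟨_, k2⟩).ge
      obtain ⟨y, rfl⟩ := κ.surjective x
      exact ⟨_, k1 y⟩
  obtain ⟨f⟩ := nonempty_psu c
  exact ⟨((MonoidHom.ofInjective hφ).trans (MulEquiv.subgroupCongr hr)).trans ((psuEquivRange c).symm.trans f.symm)⟩

end OW

theorem OU.iso [IsSimpleGroup G] {B Q D : Subgroup G} {i t : G} {p n : ℕ} (h : OU B Q D i t p n) :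
    ∃ (F : Type) (_ : Field F) (_ : Fintype F), Fintype.card F = (p ^ n) ^ 2 ∧ Nonempty (G ≃* Cfsg.PSU 3 F (p ^ n)) := by
  obtain ⟨t, f, η, g, h⟩ := h.exists_OV
  obtain ⟨E, _, _, σ, ρ, l, v, h⟩ := h.exists_OW
  obtain ⟨e, e0, hN⟩ := h.exists_norm
  refine ⟨E, _, _, by rw [← Nat.card_eq_fintype_card, h.cj.card], (h.smul e0).iso hN ?_⟩
  obtain ⟨z, hz, z1⟩ := h.exC
  have tM : t ∈ Q ⊔ zpowers t := mem_sup_right (mem_zpowers t)
  have h1 : ∀ x ∈ Q, x ≠ 1 → η x ∈ Q ⊔ zpowers t := fun x hx x1 => by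
    rw [show η x = t⁻¹ * (f x)⁻¹ * (f x * t * η x * g x) * (g x)⁻¹ by group, ← h.fm hx x1]
    exact mul_mem (mul_mem (mul_mem (inv_mem tM) (mem_sup_left (inv_mem (h.fQ hx x1))))
      (mul_mem (mul_mem tM (mem_sup_left hx)) tM)) (mem_sup_left (inv_mem (h.gQ hx x1)))
  have h2 : D ≤ normalizer ((Q ⊔ zpowers t : Subgroup G) : Set G) := fun k hk => mem_norm_of fun x hx =>
    (sup_le (fun y hy => mem_sup_left (h.cd hk hy)) (zpowers_le.2 (by
      have := h1 _ (h.cd hk hz.1) (by simpa using z1)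
      rw [(h.H3 hz.1 z1 hk).2.1, mul_mem_cancel_right (h1 z hz.1 z1)] at this
      simpa [mul_assoc, h.t2, h.t_inv] using mul_mem this tM)) : _ ≤ (Q ⊔ zpowers t).comap (MulAut.conj k).toMonoidHom) hx
  have h3 : B ≤ normalizer ((Q ⊔ zpowers t : Subgroup G) : Set G) := fun b hb => by
    obtain ⟨x, hx, d, hd, rfl⟩ := h.dec b hb
    exact mul_mem (le_normalizer (mem_sup_left hx)) (h2 hd)
  refine (normalizer_eq_top_iff.1 (eq_top_iff.2 fun a _ => ?_)).eq_bot_or_eq_top.resolve_left fun e =>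
    z1 (mem_bot.1 (e ▸ mem_sup_left hz.1))
  by_cases ha : a ∈ B
  · exact h3 ha
  obtain ⟨x, hx, b, hb, rfl⟩ := h.bru a ha
  exact mul_mem (le_normalizer (mul_mem (mem_sup_left hx) tM)) (h3 hb)

end Cfsg.Lib.OU
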