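import Cfsg.Agent.Lib.U3.Even
import Cfsg.Agent.Lib.Core.PCore
import Cfsg.Prelude.Def_Transfer
import Mathlib.FieldTheory.Finite.GaloisField

/-! Automorphisms of the Sylow `2`-subgroup of `SU₃(2ⁿ)`. -/

set_option autoImplicit false
set_option linter.unusedSectionVars false

namespace Cfsg.Lib.U3.Aut

open Cfsg.Lib.Forms Cfsg.Lib.U3.Heis
open scoped commutatorElement

variable {F : Type*} [Field F] {σ : F →+* F} {q : ℕ} {h : IsConj σ q}

theorem a_eq_zero (α : MulAut (Heis h)) {x : Heis h} (hx : x.a = 0) : (α x).a = 0 :=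
  mem_center.1 (Subgroup.mem_center_iff.2 fun y => by
    obtain ⟨y, rfl⟩ := α.surjective y
    rw [← map_mul, ← map_mul, Subgroup.mem_center_iff.1 (mem_center.2 hx)])

/-- The map induced on the quotient by the centre. -/
noncomputable def A (α : MulAut (Heis h)) (a : F) : F := (α (exists_a (h := h) a).choose).a

theorem A_a (α : MulAut (Heis h)) (x : Heis h) : A α x.a = (α x).a := by
  have h1 := (exists_a (h := h) x.a).choose_spec
  have := a_eq_zero α (x := (exists_a (h := h) x.a).choose * x⁻¹) (by rw [mul_a, h1, inv_a, add_neg_cancel])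
  rw [map_mul, map_inv, mul_a, inv_a] at this
  exact add_neg_eq_zero.1 this

theorem A_add (α : MulAut (Heis h)) (a b : F) : A α (a + b) = A α a + A α b := by
  obtain ⟨x, rfl⟩ := exists_a (h := h) a
  obtain ⟨y, rfl⟩ := exists_a (h := h) b
  rw [← mul_a, A_a, A_a, A_a, map_mul, mul_a]

theorem A_mul (α β : MulAut (Heis h)) (a : F) : A (α * β) a = A α (A β a) := by
  obtain ⟨x, rfl⟩ := exists_a (h := h) a
  rw [A_a, A_a, A_a]; rfl

theorem A_one (a : F) : A (1 : MulAut (Heis h)) a = a := by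
  obtain ⟨x, rfl⟩ := exists_a (h := h) a
  rw [A_a]; rfl

theorem A_zero (α : MulAut (Heis h)) : A α 0 = 0 := by
  rw [← one_a (h := h), A_a, map_one]

theorem A_inj (α : MulAut (Heis h)) : Function.Injective (A α) :=
  Function.LeftInverse.injective (g := A α⁻¹) fun a => by rw [← A_mul, inv_mul_cancel, A_one]

theorem A_dil (c : Fˣ) (a : F) : A (dil h c) a = c * a := by
  obtain ⟨x, rfl⟩ := exists_a (h := h) a
  rw [A_a, dil_a]

theorem A_conj (g : Heis h) (a : F) : A (MulAut.conj g) a = a := by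
  obtain ⟨x, rfl⟩ := exists_a (h := h) a
  rw [A_a]; simp

theorem A_comm (α : MulAut (Heis h)) (a b : F) : σ a * b = σ b * a ↔ σ (A α a) * A α b = σ (A α b) * A α a := by
  obtain ⟨x, rfl⟩ := exists_a (h := h) a
  obtain ⟨y, rfl⟩ := exists_a (h := h) b
  rw [A_a, A_a, ← commute_iff, ← commute_iff, ← map_mul, ← map_mul, α.apply_eq_iff_eq]

theorem A_pow {α : MulAut (Heis h)} {c : F} (hc : ∀ a, A α a = c * a) (k : ℕ) (a : F) :
    A (α ^ k) a = c ^ k * a := by
  induction k with
  | zero => rw [pow_zero, A_one, pow_zero, one_mul]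
  | succ k ih => rw [pow_succ', A_mul, hc, ih, pow_succ', mul_assoc]

theorem aut_σ (h : IsConj σ q) (φ : F ≃+* F) (a : F) : φ (σ a) = σ (φ a) := by
  rw [h.apply, h.apply, map_pow]

variable (h) in
/-- The automorphism induced by a field automorphism. -/
def gal (φ : F ≃+* F) : MulAut (Heis h) where
  toFun x := ⟨φ x.a, φ x.b, by rw [← aut_σ h, ← aut_σ h, ← map_mul, ← map_add, ← map_add, x.rel, map_zero]⟩
  invFun x := ⟨φ.symm x.a, φ.symm x.b, by
    rw [← aut_σ h, ← aut_σ h, ← map_mul, ← map_add, ← map_add, x.rel, map_zero]⟩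
  left_inv x := Heis.ext (by simp) (by simp)
  right_inv x := Heis.ext (by simp) (by simp)
  map_mul' x y := Heis.ext (by simp) (by simp [aut_σ h])

theorem A_gal (φ : F ≃+* F) (a : F) : A (gal h φ) a = φ a := by
  obtain ⟨x, rfl⟩ := exists_a (h := h) a
  rw [A_a]; rfl

theorem aut_sq (h : IsConj σ q) {φ : F ≃+* F} (hφ : ∀ a, φ (φ a) = a) : (∀ a, φ a = a) ∨ ∀ a, φ a = σ a := by
  have := h.finite
  by_cases h1 : (φ : F →+* F) = RingHom.id F
  · exact Or.inl fun a => DFunLike.congr_fun h1 a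
  · obtain ⟨r, hr⟩ := exists_isConj h1 hφ
    have : r = q := Nat.pow_left_injective two_ne_zero (hr.card.symm.trans h.card)
    exact Or.inr fun a => by rw [h.apply, ← this, ← hr.apply]; rfl

variable (h2 : (2 : F) = 0)
include h2

theorem eq_one_of_pow {c : F} {k : ℕ} (hc : c ^ 2 ^ k = 1) : c = 1 := by
  induction k with
  | zero => simpa using hc
  | succ k ih =>
    refine ih ?_
    rw [pow_succ, pow_mul] at hc
    exact sub_eq_zero.1 (mul_self_eq_zero.1 (by linear_combination hc + (1 - c ^ 2 ^ k) * h2))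

section one
variable {α : MulAut (Heis h)} (h1 : A α 1 = 1)
include h1

omit h2 in
theorem fix_iff (a : F) : σ (A α a) = A α a ↔ σ a = a := by
  have := A_comm α a 1
  rw [h1, map_one, mul_one, one_mul, mul_one, one_mul] at this
  exact this.symm

omit h2 in
theorem A_fix_mul {a : F} (ha : σ a = a) (w : F) : A α (a * w) = A α a * A α w := by
  have key : ∀ w, σ w ≠ w → A α (a * w) = A α a * A α w := by
    intro w hw
    have e1 := (A_comm α w (a * w)).1 (by rw [map_mul, ha]; ring)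
    have e2 := (A_comm α (w + 1) (a * (w + 1))).1 (by rw [map_mul, ha]; ring)
    have e3 := (fix_iff h1 a).2 ha
    have e4 := (fix_iff h1 w).not.2 hw
    rw [mul_add, mul_one, A_add, A_add, h1, map_add, map_add, map_one, e3] at e2
    have w0 : A α w ≠ 0 := fun e => e4 (by rw [e, map_zero])
    have : (σ (A α w) - A α w) * (A α (a * w) - A α a * A α w) = 0 := by
      linear_combination e1 - A α w * e2 + A α w * e1
    exact sub_eq_zero.1 ((mul_eq_zero.1 this).resolve_left (sub_ne_zero.2 e4))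
  by_cases hw : σ w = w
  · obtain ⟨θ, hθ⟩ := h.exists_not_fixed
    have e1 := key (w + θ) (by rw [map_add, hw]; exact fun e => hθ (add_left_cancel e))
    rw [mul_add, A_add, A_add, key θ hθ] at e1
    linear_combination e1
  · exact key w hw

theorem b_eq {x : Heis h} (hx : x.a = 0) : (α x).b = A α x.b := by
  obtain ⟨s, hs⟩ := exists_sq h h2 x.b
  have e := fixed_b h2 hx
  have hs' : σ s = s := sub_eq_zero.1 (mul_self_eq_zero.1 (by
    rw [← hs, map_mul] at e
    linear_combination e + (s * s - σ s * s) * h2))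
  obtain ⟨y, rfl⟩ := exists_a (h := h) s
  have : x = y * y := Heis.ext (by rw [hx, mul_self_a h2]) (by rw [mul_self_b h2, hs', hs])
  rw [← hs, A_fix_mul h1 hs', this, map_mul, mul_self_b h2, ← A_a, (fix_iff h1 _).2 hs']

theorem A_norm (a : F) : A α (a * σ a) = A α a * σ (A α a) := by
  obtain ⟨x, rfl⟩ := exists_a (h := h) a
  rw [← mul_self_b h2, ← b_eq h2 h1 (mul_self_a h2 x), map_mul, mul_self_b h2, A_a]

theorem A_tr (a : F) : A α (a - σ a) = A α a - σ (A α a) := by
  obtain ⟨x, rfl⟩ := exists_a (h := h) a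
  obtain ⟨y, hy⟩ := exists_a (h := h) 1
  have := b_eq h2 h1 (commutator_a x y)
  rw [map_commutatorElement, commutator_b, commutator_b, ← A_a, ← A_a, hy, h1, map_one, one_mul, mul_one,
    one_mul, mul_one] at this
  exact this.symm

theorem A_mul' (u w : F) : A α (u * w) = A α u * A α w := by
  by_cases hw : σ w = w
  · rw [mul_comm, A_fix_mul h1 hw, mul_comm]
  have hsq : A α (w * w) = A α w * A α w := by
    rw [show w * w = (w - σ w) * w + w * σ w by ring, A_add, A_norm h2 h1,
      A_fix_mul h1 (by rw [map_sub, h.σσ]; linear_combination (σ w - w) * h2), A_tr h2 h1]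
    ring
  have h0 : w - σ w ≠ 0 := sub_ne_zero.2 (Ne.symm hw)
  have h0' : σ w - w ≠ 0 := sub_ne_zero.2 hw
  set b := (u - σ u) / (w - σ w) with hb
  have fb : σ b = b := by
    rw [hb, map_div₀, map_sub, map_sub, h.σσ, h.σσ]; field_simp; ring
  have fa : σ (u - b * w) = u - b * w := by
    rw [map_sub, map_mul, fb, hb]; field_simp; ring
  have e1 : A α u = A α (u - b * w) + A α b * A α w := by rw [← A_fix_mul h1 fb, ← A_add, sub_add_cancel]
  rw [show u * w = (u - b * w) * w + b * (w * w) by ring, A_add, A_fix_mul h1 fa, A_fix_mul h1 fb, hsq, e1]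
  ring

end one

theorem struct (α : MulAut (Heis h)) : ∃ (c : Fˣ) (φ : F ≃+* F), (∀ a, A α a = c * φ a) ∧
    ∀ x : Heis h, x.a = 0 → (α x).b = c * σ c * φ x.b := by
  have := h.finite
  have c0 : A α 1 ≠ 0 := fun e => one_ne_zero (A_inj α (e.trans (A_zero α).symm))
  set c := Units.mk0 _ c0 with hc
  have h1 : A (dil h c⁻¹ * α) 1 = 1 := by rw [A_mul, A_dil]; exact c.inv_mul
  refine ⟨c, ⟨Equiv.ofBijective _ (A_inj (dil h c⁻¹ * α)).bijective_of_finite, A_mul' h2 h1, A_add _⟩,
    fun a => ?_, fun x hx => ?_⟩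
  · change _ = c * A (dil h c⁻¹ * α) a
    rw [A_mul, A_dil, Units.mul_inv_cancel_left]
  · change _ = c * σ c * A (dil h c⁻¹ * α) x.b
    have := (map_ne_zero σ).2 c.ne_zero
    rw [← b_eq h2 h1 hx, MulAut.mul_apply, dil_b, Units.val_inv_eq_inv_val, map_inv₀]
    field_simp

/-- An automorphism whose square is trivial modulo the centre fixes the centre. -/
theorem fix_center {α : MulAut (Heis h)} (hα : ∀ a, A α (A α a) = a) {x : Heis h} (hx : x.a = 0) : α x = x := by
  obtain ⟨c, φ, e1, e2⟩ := struct h2 α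
  have e3 : c * φ c = 1 := by simpa [e1] using hα 1
  have e4 : ∀ a, φ (φ a) = a := fun a => by
    have := hα a
    rwa [e1, e1, map_mul, ← mul_assoc, e3, one_mul] at this
  refine Heis.ext ((a_eq_zero α hx).trans hx.symm) ?_
  rw [e2 x hx]
  rcases aut_sq h e4 with e | e
  · rw [e] at e3 ⊢
    rw [eq_one_of_pow h2 (c := c) (k := 1) (by rw [← e3]; ring), map_one, one_mul, one_mul]
  · rw [e] at e3 ⊢
    rw [e3, one_mul, fixed_b h2 hx]

theorem sq_eq_one {α : MulAut (Heis h)} (hα : ∀ a, A α a = a) : α * α = 1 := by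
  ext1 x
  have e1 : (α x * x⁻¹).a = 0 := by rw [mul_a, ← A_a, hα, inv_a, add_neg_cancel]
  have e2 := fix_center h2 (fun a => by rw [hα, hα]) e1
  have e3 := (mul_self_eq_one h2).2 e1
  rw [map_mul, map_inv, mul_inv_eq_iff_eq_mul] at e2
  have e4 := Subgroup.mem_center_iff.1 (mem_center.2 e1) x
  change α (α x) = x
  rw [e2]
  calc α x * x⁻¹ * α x = (α x * x⁻¹) * (α x * x⁻¹) * x := by group
    _ = x := by rw [e3, one_mul]

omit h2 in
theorem card_hom {A B : Type*} [AddCommGroup A] [AddCommGroup B] [Finite A] [Finite B] (hA : ∀ x : A, 2 • x = 0)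
    (hB : ∀ x : B, 2 • x = 0) {m k : ℕ} (cA : Nat.card A = 2 ^ m) (cB : Nat.card B = 2 ^ k) :
    Nat.card (A →+ B) = 2 ^ (m * k) := by
  let _ := AddCommGroup.zmodModule hA
  let _ := AddCommGroup.zmodModule hB
  have : Module.Finite (ZMod 2) A := Module.Finite.of_finite
  have : Module.Finite (ZMod 2) B := Module.Finite.of_finite
  rw [Module.natCard_eq_pow_finrank (K := ZMod 2), Nat.card_zmod, Nat.pow_right_inj one_lt_two] at cA cB
  rw [Nat.card_congr (AddMonoidHom.toZModLinearMapEquiv 2).toEquiv, Module.natCard_eq_pow_finrank (K := ZMod 2),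
    Nat.card_zmod, Module.finrank_linearMap, cA, cB]

omit h2 in
theorem card_aut {p f : ℕ} [Fact p.Prime] [Finite F] [CharP F p] (h : Nat.card F = p ^ f) :
    Nat.card (F ≃+* F) = f := by
  let _ := ZMod.algebra F p
  have h1 := (FiniteField.pow_finrank_eq_natCard p F).trans h
  rw [Nat.pow_right_inj (Fact.out : p.Prime).two_le] at h1
  rw [← h1, ← IsGalois.card_aut_eq_finrank]
  exact Nat.card_congr ⟨fun φ => AlgEquiv.ofRingEquiv (f := φ) fun r => DFunLike.congr_fun (Subsingleton.elim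
      (φ.toRingHom.comp (algebraMap (ZMod p) F)) (algebraMap (ZMod p) F)) r,
    fun φ => φ.toRingEquiv, fun _ => rfl, fun _ => rfl⟩

omit h2 in
variable (h) in
/-- The action on the quotient by the centre. -/
noncomputable def Φ : MulAut (Heis h) →* Equiv.Perm F :=
  MonoidHom.toHomPerm (G := MulAut (Heis h)) ⟨⟨A, funext A_one⟩, fun α β => funext (A_mul α β)⟩

omit h2 in
theorem Φ_apply (α : MulAut (Heis h)) (a : F) : Φ h α a = A α a := rfl

omit h2 in
theorem mem_ker {α : MulAut (Heis h)} : α ∈ (Φ h).ker ↔ ∀ a, A α a = a := Equiv.ext_iff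

theorem card_range : Nat.card (Φ h).range = Nat.card Fˣ * Nat.card (F ≃+* F) := by
  rw [← Nat.card_prod]
  symm
  refine Nat.card_eq_of_bijective (fun p => ⟨Φ h (dil h p.1 * gal h p.2), _, rfl⟩) ⟨?_, ?_⟩
  · rintro ⟨c, φ⟩ ⟨d, ψ⟩ e
    have e1 : ∀ a, c * φ a = d * ψ a := fun a => by
      simpa only [Φ_apply, A_mul, A_dil, A_gal] using congrArg (fun g : (Φ h).range => g.1 a) e
    have e2 : c = d := Units.ext (by simpa using e1 1)
    subst e2
    exact Prod.ext rfl (RingEquiv.ext fun a => mul_left_cancel₀ c.ne_zero (e1 a))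
  · rintro ⟨_, α, rfl⟩
    obtain ⟨c, φ, e, -⟩ := struct h2 α
    exact ⟨(c, φ), Subtype.ext (Equiv.ext fun a => by simp only [Φ_apply, A_mul, A_dil, A_gal, e])⟩

/-- The central automorphism attached to an additive map into the fixed field. -/
def cen (f : F →+ (σ : F →+ F).eqLocus (AddMonoidHom.id F)) : MulAut (Heis h) where
  toFun x := ⟨x.a, x.b + f x.a, by
    have : σ (f x.a) = f x.a := (f x.a).2
    rw [map_add, this]; linear_combination x.rel + (f x.a : F) * h2⟩
  invFun x := ⟨x.a, x.b + f x.a, by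
    have : σ (f x.a) = f x.a := (f x.a).2
    rw [map_add, this]; linear_combination x.rel + (f x.a : F) * h2⟩
  left_inv x := Heis.ext rfl (by simp only; linear_combination (f x.a : F) * h2)
  right_inv x := Heis.ext rfl (by simp only; linear_combination (f x.a : F) * h2)
  map_mul' x y := Heis.ext rfl (by simp; ring)

theorem cen_a (f : F →+ (σ : F →+ F).eqLocus (AddMonoidHom.id F)) (x : Heis h) : (cen h2 f x).a = x.a := rfl

theorem cen_b (f : F →+ (σ : F →+ F).eqLocus (AddMonoidHom.id F)) (x : Heis h) :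
    (cen h2 f x).b = x.b + f x.a := rfl

theorem cen_mem (f : F →+ (σ : F →+ F).eqLocus (AddMonoidHom.id F)) : cen h2 f ∈ (Φ h).ker :=
  mem_ker.2 fun a => by
    obtain ⟨x, rfl⟩ := exists_a (h := h) a
    rw [A_a, cen_a]

theorem exists_cen {α : MulAut (Heis h)} (hα : α ∈ (Φ h).ker) : ∃ f, α = cen h2 f := by
  rw [mem_ker] at hα
  have ea : ∀ x, (α x).a = x.a := fun x => by rw [← A_a, hα]
  have wd : ∀ x y : Heis h, x.a = y.a → (α x).b - x.b = (α y).b - y.b := fun x y e => by
    have e1 : (x * y⁻¹).a = 0 := by rw [mul_a, inv_a, e, add_neg_cancel]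
    have e2 := fix_center h2 (fun a => by rw [hα, hα]) e1
    rw [map_mul, map_inv, mul_inv_eq_iff_eq_mul] at e2
    have e3 := congrArg Heis.b e2
    have e4 := y.rel
    simp only [mul_b, mul_a, inv_a, inv_b, ea, e, add_neg_cancel, map_zero] at e3
    linear_combination e3 + e4
  let s : F → Heis h := fun a => (exists_a (h := h) a).choose
  have hs : ∀ a, (s a).a = a := fun a => (exists_a (h := h) a).choose_spec
  refine ⟨AddMonoidHom.mk' (fun a => ⟨(α (s a)).b - (s a).b, ?_⟩) fun a b => Subtype.ext ?_, ?_⟩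
  · have e1 := (s a).rel
    have e2 := (α (s a)).rel
    rw [ea] at e2
    change σ _ = _
    rw [map_sub]
    simp only [AddMonoidHom.id_apply]
    linear_combination e2 - e1 + ((s a).b - (α (s a)).b) * h2
  · change _ = (α (s a)).b - (s a).b + ((α (s b)).b - (s b).b)
    simp only
    rw [wd (s (a + b)) (s a * s b) (by rw [mul_a, hs, hs, hs]), map_mul, mul_b, mul_b, ea, ea]
    ring
  · ext1 x
    refine Heis.ext (ea x) ?_
    change _ = x.b + ((α (s x.a)).b - (s x.a).b)
    rw [wd (s x.a) x (hs _), add_sub_cancel]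

theorem card_ker {n : ℕ} (hq : q = 2 ^ n) : Nat.card (Φ h).ker = 2 ^ (2 * n ^ 2) := by
  have := h.finite
  rw [show 2 * n ^ 2 = (n * 2) * n by ring, ← card_hom (A := F) (B := (σ : F →+ F).eqLocus (AddMonoidHom.id F))
    (fun x => by rw [two_nsmul, ← two_mul, h2, zero_mul])
    (fun x => Subtype.ext (by rw [two_nsmul]; change x.1 + x.1 = 0; rw [← two_mul, h2, zero_mul]))
    (by rw [h.card, hq, pow_mul]) (hq ▸ h.card_fixed)]
  symm
  refine Nat.card_eq_of_bijective (fun f => ⟨cen h2 f, cen_mem h2 f⟩) ⟨fun f g e => ?_, ?_⟩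
  · ext a
    obtain ⟨x, rfl⟩ := exists_a (h := h) a
    exact add_left_cancel (congrArg (fun g : (Φ h).ker => (g.1 x).b) e)
  · rintro ⟨α, hα⟩
    obtain ⟨f, rfl⟩ := exists_cen h2 hα
    exact ⟨f, rfl⟩

theorem elem_ker : IsElementaryAbelian 2 (Φ h).ker := by
  refine ⟨⟨⟨fun α β => Subtype.ext ?_⟩⟩, fun α hα => by rw [sq, sq_eq_one h2 (mem_ker.1 hα)]⟩
  obtain ⟨f, hf⟩ := exists_cen h2 α.2
  obtain ⟨g, hg⟩ := exists_cen h2 β.2
  rw [Subgroup.coe_mul, Subgroup.coe_mul, hf, hg]
  ext1 x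
  exact Heis.ext rfl (by simp only [MulAut.mul_apply, cen_a, cen_b]; ring)

theorem pCore_eq : pCore 2 (MulAut (Heis h)) = (Φ h).ker := by
  refine le_antisymm (fun α hα => ?_)
    (Core.le_pCore (Core.isPGroup_iff_forall_mem.2 fun α hα => ⟨1, (elem_ker h2).2 α hα⟩))
  have key : ∀ β ∈ pCore 2 (MulAut (Heis h)), ∀ c : F, (∀ a, A β a = c * a) → c = 1 := fun β hβ c hc => by
    obtain ⟨k, hk⟩ := Core.isPGroup_iff_forall_mem.1 (Core.isPGroup_pCore 2 _) β hβ
    have := A_pow hc (2 ^ k) 1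
    rw [hk, A_one, mul_one] at this
    exact eq_one_of_pow h2 this.symm
  obtain ⟨c, φ, e, -⟩ := struct h2 α
  have h1 : ∀ d : Fˣ, φ d * (d⁻¹ : Fˣ) = 1 := fun d => by
    refine key (α * (dil h d * α⁻¹ * (dil h d)⁻¹)) (Subgroup.mul_mem _ hα
      (Subgroup.Normal.conj_mem inferInstance _ (Subgroup.inv_mem _ hα) _)) _ fun a => ?_
    have e1 : A α (A α⁻¹ ((d⁻¹ : Fˣ) * a)) = (d⁻¹ : Fˣ) * a := by rw [← A_mul, mul_inv_cancel, A_one]
    rw [show (dil h d)⁻¹ = dil h d⁻¹ from (map_inv (dilHom h) d).symm, A_mul, A_mul, A_mul, A_dil, A_dil, e,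
      map_mul, mul_left_comm, ← e, e1, mul_assoc]
  have h3 : ∀ a, φ a = a := fun a => by
    by_cases a0 : a = 0
    · rw [a0, map_zero]
    · simpa [mul_inv_eq_one₀ a0] using h1 (Units.mk0 a a0)
  simp only [h3] at e
  rw [mem_ker]
  intro a
  rw [e, key α hα c e, one_mul]

theorem card_mulAut {n : ℕ} (hq : q = 2 ^ n) :
    Nat.card (MulAut (Heis h)) = 2 ^ (2 * n ^ 2) * (2 * n * (q ^ 2 - 1)) := by
  have := h.finite
  have : CharP F 2 := CharTwo.of_one_ne_zero_of_two_eq_zero one_ne_zero h2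
  rw [← (Φ h).ker.card_mul_index, Subgroup.index_ker, card_ker h2 hq, card_range h2, Nat.card_units, h.card,
    card_aut (p := 2) (f := n * 2) (by rw [h.card, hq, pow_mul])]
  ring

end Cfsg.Lib.U3.Aut
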