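import Cfsg.Agent.Lib.BS.Field
import Cfsg.Agent.Lib.Invol.Count
import Cfsg.Agent.Lib.Invol.Sylow2
import Cfsg.Agent.Lib.PGrp.Cyclic

/-! O'Nan's theorem, part 1: the set-up, fixed points of involutions, and the order of `C_Q(i)`. -/

set_option autoImplicit false
set_option linter.unusedSectionVars false

namespace Cfsg.Lib.OU

open Subgroup Cfsg.Lib.Invol Cfsg.Lib.Transfer Cfsg.Lib.BS MulAction

theorem arith {p n m j : ℕ} (hp : 3 ≤ p) (hn : 1 ≤ n) (hm : m < 3 * n)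
    (h1 : j * (p ^ m + 1) + 1 = p ^ (3 * n - m)) (h2 : j ∣ p ^ (2 * n) - 1) : m = n := by
  have p1 : 1 < p := by omega
  have h3 : j * (p ^ m + 1) = p ^ (3 * n - m) - 1 := by omega
  have pos : ∀ {k}, 0 < k → 0 < p ^ k - 1 := fun hk => by have := Nat.one_lt_pow hk.ne' p1; omega
  rcases Nat.eq_zero_or_pos m with rfl | hm0
  · have h4 := Nat.le_of_dvd (pos (by omega)) h2
    have h5 : 3 * p ^ (2 * n) ≤ p ^ (3 * n) := by
      rw [show 3 * n = n + 2 * n by ring, pow_add]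
      exact Nat.mul_le_mul_right _ (hp.trans (Nat.le_self_pow (by omega) p))
    have := pos (k := 2 * n) (by omega)
    simp only [pow_zero, Nat.sub_zero] at h1; omega
  have h4 : p ^ m + 1 ∣ p ^ Nat.gcd (2 * m) (3 * n - m) - 1 := by
    rw [← Nat.pow_sub_one_gcd_pow_sub_one]
    exact Nat.dvd_gcd ⟨p ^ m - 1, by rw [mul_comm 2, pow_mul, ← Nat.sq_sub_sq, one_pow]⟩ (h3 ▸ dvd_mul_left _ _)
  have h5 : m < Nat.gcd (2 * m) (3 * n - m) := (Nat.pow_lt_pow_iff_right p1).1 (by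
    have := Nat.le_of_dvd (pos (Nat.gcd_pos_of_pos_left _ (by omega))) h4; omega)
  obtain ⟨c, hc⟩ : 2 * m ∣ 3 * n - m := by
    obtain ⟨k, hk⟩ := Nat.gcd_dvd_left (2 * m) (3 * n - m)
    have : k = 1 := by
      rcases k with _ | _ | k
      · omega
      · rfl
      · nlinarith
    rw [this, mul_one] at hk
    exact hk ▸ Nat.gcd_dvd_right _ _
  have h6 : j ∣ p ^ Nat.gcd (3 * n - m) (2 * n) - 1 := by
    rw [← Nat.pow_sub_one_gcd_pow_sub_one]; exact Nat.dvd_gcd (h3 ▸ dvd_mul_right _ _) h2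
  have c0 : 0 < c := Nat.pos_of_ne_zero fun e => by rw [e] at hc; omega
  have h7 : 3 * n = m * (2 * c + 1) := by rw [mul_add, mul_one, ← mul_assoc, mul_comm m 2, ← hc]; omega
  suffices c = 1 by rw [this] at h7; omega
  obtain ⟨k, hk⟩ := Nat.gcd_dvd_left (3 * n - m) (2 * n)
  rcases k with _ | _ | k
  · omega
  · obtain ⟨l, hl⟩ : 3 * n - m ∣ 2 * n := by rw [hk]; simpa using Nat.gcd_dvd_right _ _
    have h8 : m * (3 * (c * l)) = m * (2 * c + 1) := by rw [← h7]; rw [hc] at hl; nlinarith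
    have h9 := Nat.eq_of_mul_eq_mul_left hm0 h8
    exact Nat.dvd_one.1 ((Nat.dvd_add_right (dvd_mul_left c 2)).1 (h9 ▸ (dvd_mul_right c l).mul_left 3))
  have h8 : Nat.gcd (3 * n - m) (2 * n) ≤ m * c := by rw [hc] at hk ⊢; nlinarith
  have h9 := (Nat.le_of_dvd (pos (Nat.gcd_pos_of_pos_left _ (by omega))) h6).trans
    (Nat.sub_le_sub_right (Nat.pow_le_pow_right p1.le h8) 1)
  rw [hc, mul_assoc, mul_comm 2, pow_mul, ← one_pow 2, Nat.sq_sub_sq, mul_comm] at h3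
  have h10 : p ^ (m * c) + 1 ≤ p ^ m + 1 := Nat.le_of_mul_le_mul_right
    (h3.ge.trans (Nat.mul_le_mul_left _ h9)) (pos (Nat.mul_pos hm0 c0))
  have := (Nat.pow_le_pow_iff_right p1).1 (Nat.le_of_add_le_add_right h10)
  nlinarith

variable {G : Type*} [Group G] [Finite G]

/-- A split rank one set-up of odd unitary type. -/
structure OU (B Q D : Subgroup G) (i t : G) (p n : ℕ) : Prop where
  pp : p.Prime
  p2 : p ≠ 2
  n1 : 1 ≤ n
  QB : Q ≤ B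
  DB : D ≤ B
  norm : B ≤ normalizer (Q : Set G)
  dec : ∀ b ∈ B, ∃ x ∈ Q, ∃ d ∈ D, b = x * d
  tD : t ∈ normalizer (D : Set G)
  tB : t ∉ B
  tt : t * t ∈ D
  bru : ∀ g, g ∉ B → ∃ x ∈ Q, ∃ b ∈ B, g = x * t * b
  reg : ∀ x ∈ Q, t⁻¹ * x * t ∈ B → x = 1
  core : B.normalCore = ⊥
  cQ : Nat.card Q = p ^ (3 * n)
  cyc : IsCyclic D
  cD : Nat.gcd 3 (p ^ n + 1) * Nat.card D = p ^ (2 * n) - 1
  i2 : orderOf i = 2
  iD : i ∈ D

/-- elements of `X` inverted by `i` -/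
def Yi (X : Subgroup G) (i y : G) : Prop := y ∈ X ∧ i * y * i⁻¹ = y⁻¹
/-- conjugates of `i` in the coset `D t` -/
def Jt (D : Subgroup G) (i t j : G) : Prop := j * t⁻¹ ∈ D ∧ ∃ g, j = g * i * g⁻¹
/-- the centraliser of an element -/
abbrev Ce (i : G) : Subgroup G := centralizer {i}

theorem card_Y {X : Subgroup G} {i : G} (hi : i * i = 1) (hX : Odd (Nat.card X)) (hn : ∀ x ∈ X, i * x * i⁻¹ ∈ X) :
    Nat.card X = Nat.card ↥(X ⊓ Ce i) * Nat.card {y // Yi X i y} := by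
  refine Eq.trans (card_eq_of_bij (p := fun a : G × G => a.1 ∈ X ⊓ Ce i ∧ Yi X i a.2) (q := (· ∈ X))
    (fun a => a.1 * a.2) (fun a ha => mul_mem ha.1.1 ha.2.1) (fun a b ha hb e => ?_) fun x hx => ?_).symm
    (card_prod_and _ _)
  · exact Prod.ext_iff.2 (cent_mul_inv_unique (odd_orderOf_of_mem hX ha.2.1) (odd_orderOf_of_mem hX hb.2.1)
      (mem_cent.1 ha.1.2) ha.2.2 (mem_cent.1 hb.1.2) hb.2.2 e)
  · obtain ⟨y, hy, z, hz, h1, h2, rfl⟩ := exists_cent_mul_inv hi hX hn hx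
    exact ⟨(y, z), ⟨⟨hy, mem_cent.2 h1⟩, hz, h2⟩, rfl⟩

theorem card_fix_conj {Ω : Type*} [MulAction G Ω] (g a : G) :
    Nat.card {ω : Ω // (g * a * g⁻¹) • ω = ω} = Nat.card {ω : Ω // a • ω = ω} :=
  card_eq_of_inverse (g⁻¹ • ·) (g • ·) (fun ω e => by rw [eq_inv_smul_iff, ← mul_smul, ← mul_smul, e])
    (fun ω e => by simp [mul_smul, e]) (fun _ _ => smul_inv_smul _ _) fun _ _ => inv_smul_smul _ _

theorem fix_pt {B : Subgroup G} {g c : G} : g • (c : G ⧸ B) = c ↔ c⁻¹ * g * c ∈ B := by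
  rw [MulAction.Quotient.smul_mk, smul_eq_mul, eq_comm, QuotientGroup.eq, mul_assoc]

namespace OU

variable {B Q D : Subgroup G} {i t : G} {p n : ℕ} (h : OU B Q D i t p n)
include h

theorem p3 : 3 ≤ p := by have := h.pp.two_le; have := h.p2; omega
theorem q3 : 3 ≤ p ^ n := h.p3.trans (Nat.le_self_pow (by have := h.n1; omega) p)
theorem oddQ : Odd (Nat.card Q) := h.cQ ▸ (h.pp.odd_of_ne_two h.p2).pow
theorem odd {x : G} (hx : x ∈ Q) : Odd (orderOf x) := odd_orderOf_of_mem h.oddQ hx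
theorem ii : i * i = 1 := mul_self_of_two h.i2
theorem i_inv : i⁻¹ = i := inv_of_two h.i2
theorem comm {a b : G} (ha : a ∈ D) (hb : b ∈ D) : Commute a b :=
  have := PGrp.isMulCommutative_of_isCyclic h.cyc; PGrp.comm_of_mem this ha hb
theorem tdt {d : G} (hd : d ∈ D) : t * d * t⁻¹ ∈ D := conj_mem_of_mem_normalizer h.tD hd
theorem tdt' {d : G} (hd : d ∈ D) : t⁻¹ * d * t ∈ D := by
  simpa using conj_mem_of_mem_normalizer (inv_mem h.tD) hd
theorem cq {b x : G} (hb : b ∈ B) (hx : x ∈ Q) : b * x * b⁻¹ ∈ Q := conj_mem_of_mem_normalizer (h.norm hb) hx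
theorem cq' {b x : G} (hb : b ∈ B) (hx : x ∈ Q) : b⁻¹ * x * b ∈ Q := by simpa using h.cq (inv_mem hb) hx
theorem eq_i {d : G} (hd : d ∈ D) (h2 : d * d = 1) (h1 : d ≠ 1) : d = i :=
  eq_of_isCyclic h.cyc hd h.iD (two_of_mul_self h2 h1) h.i2
theorem ti : t * i * t⁻¹ = i := h.eq_i (h.tdt h.iD) (by rw [conj_mul, h.ii]; simp) (by simpa using ne_one_of_two h.i2)
theorem ti' : t⁻¹ * i * t = i := by nth_rw 1 [← h.ti]; group
theorem one_QD {x : G} (hx : x ∈ Q) (hd : x ∈ D) : x = 1 := h.reg x hx (h.DB (h.tdt' hd))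
theorem QD_unique {y d y' d' : G} (hy : y ∈ Q) (hd : d ∈ D) (hy' : y' ∈ Q) (hd' : d' ∈ D)
    (e : y * d = y' * d') : y = y' ∧ d = d' := by
  have h1 : y'⁻¹ * y = d' * d⁻¹ := by rw [inv_mul_eq_iff_eq_mul, ← mul_assoc, ← e]; group
  have h3 : y' = y := inv_mul_eq_one.mp (h.one_QD (mul_mem (inv_mem hy') hy) (h1 ▸ mul_mem hd' (inv_mem hd)))
  exact ⟨h3.symm, mul_left_cancel (h3 ▸ e)⟩
theorem mem_D {b : G} (hb : b ∈ B) (h1 : t⁻¹ * b * t ∈ B) : b ∈ D := by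
  obtain ⟨x, hx, d, hd, rfl⟩ := h.dec b hb
  rwa [h.reg x hx (by simpa [mul_assoc] using mul_mem h1 (inv_mem (h.DB (h.tdt' hd)))), one_mul]
theorem pt_inj {x y : G} (hx : x ∈ Q) (hy : y ∈ Q) (e : ((x * t : G) : G ⧸ B) = (y * t : G)) : x = y :=
  inv_mul_eq_one.1 (h.reg _ (mul_mem (inv_mem hx) hy) (by simpa [mul_assoc] using QuotientGroup.eq.1 e))
theorem pt_ne {x : G} (hx : x ∈ Q) : ((x * t : G) : G ⧸ B) ≠ ((1 : G) : G ⧸ B) := fun e =>
  h.tB (by simpa using mul_mem (inv_mem (h.QB hx)) (inv_mem (QuotientGroup.eq.1 e)))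
theorem pts (ω : G ⧸ B) : ω = ((1 : G) : G ⧸ B) ∨ ∃ x ∈ Q, ω = (x * t : G) := by
  obtain ⟨g, rfl⟩ := QuotientGroup.mk_surjective ω
  by_cases hg : g ∈ B
  · exact Or.inl (QuotientGroup.eq.2 (by simpa using hg))
  obtain ⟨x, hx, b, hb, rfl⟩ := h.bru g hg
  exact Or.inr ⟨x, hx, QuotientGroup.eq.2 (by simpa [mul_assoc] using hb)⟩
theorem smul_D {d : G} (hd : d ∈ D) (x : G) : d • ((x * t : G) : G ⧸ B) = (d * x * d⁻¹ * t : G) :=
  QuotientGroup.eq.2 (by simpa [mul_assoc] using h.DB (h.tdt' (inv_mem hd)))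
theorem smul_one {b : G} (hb : b ∈ B) : b • ((1 : G) : G ⧸ B) = (1 : G) := fix_pt.2 (by simpa using hb)
theorem fix_D {d x : G} (hd : d ∈ D) (hx : x ∈ Q) : d • ((x * t : G) : G ⧸ B) = (x * t : G) ↔ Commute d x := by
  rw [h.smul_D hd]
  exact ⟨fun e => mul_inv_eq_iff_eq_mul.1 (h.pt_inj (h.cq (h.DB hd) hx) hx e), fun e => by rw [e.eq, mul_inv_cancel_right]⟩

theorem card_pts (P : G ⧸ B → Prop) :
    Nat.card {ω // P ω ∧ ω ≠ ((1 : G) : G ⧸ B)} = Nat.card {x // x ∈ Q ∧ P (x * t : G)} :=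
  (card_eq_of_bij (fun x : G => ((x * t : G) : G ⧸ B)) (fun _ e => ⟨e.2, h.pt_ne e.1⟩)
    (fun _ _ e e' => h.pt_inj e.1 e'.1) fun ω e => let ⟨x, hx, e'⟩ := (h.pts ω).resolve_left e.2
      ⟨x, ⟨hx, e' ▸ e.1⟩, e'.symm⟩).symm

theorem card_fix {d : G} (hd : d ∈ D) : Nat.card {ω : G ⧸ B // d • ω = ω} = Nat.card ↥(Q ⊓ Ce d) + 1 := by
  rw [card_remove (p := fun ω : G ⧸ B => d • ω = ω) (h.smul_one (h.DB hd)), h.card_pts]
  exact congrArg (· + 1) (card_congr_iff fun x => and_congr_right fun hx => (h.fix_D hd hx).trans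
    ⟨fun e => mem_cent.2 e.symm, fun e => (mem_cent.1 e).symm⟩)

theorem faith {d : G} (hd : d ∈ D) (hc : ∀ x ∈ Q, Commute d x) : d = 1 := by
  refine mem_bot.1 (h.core ▸ fun g => ?_)
  have : d • ((g⁻¹ : G) : G ⧸ B) = (g⁻¹ : G) := by
    rcases h.pts (g⁻¹ : G) with e | ⟨x, hx, e⟩ <;> rw [e]
    exacts [h.smul_one (h.DB hd), (h.fix_D hd hx).2 (hc x hx)]
  simpa using fix_pt.1 this

theorem inv_B {s : G} (hs : s ∈ B) (h2 : s * s = 1) (h1 : s ≠ 1) : Yi Q i (s * i) := by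
  obtain ⟨x, hx, d, hd, rfl⟩ := h.dec s hs
  obtain ⟨h3, h4⟩ := h.QD_unique (mul_mem hx (h.cq (h.DB hd) hx)) (mul_mem hd hd) (one_mem _) (one_mem _)
    (by rw [one_mul, ← h2]; group)
  obtain rfl := h.eq_i hd h4 fun e => h1 (by
    rw [e, one_mul, inv_one, mul_one] at h3; rw [eq_one_of_mul_self (h.odd hx) h3, e, mul_one])
  rw [mul_assoc, h4, mul_one]
  exact ⟨hx, eq_inv_of_mul_eq_one_right h3⟩

theorem exists_root {y : G} (hy : Yi Q i y) : ∃ z, Yi Q i z ∧ z * i * z⁻¹ = y * i ∧ ∀ g, Commute g y → Commute g z := by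
  obtain ⟨k, hk⟩ := exists_sqrt (h.odd hy.1)
  refine ⟨y ^ k, ⟨pow_mem hy.1 k, conj_pow_of_inv hy.2 k⟩, ?_, fun g e => e.pow_right k⟩
  rw [← conj_pow_of_inv hy.2 k, h.i_inv, ← mul_assoc, ← mul_assoc, mul_assoc _ i i, h.ii, mul_one, hk]

theorem J_notMem {j : G} (hj : Jt D i t j) : j ∉ B := fun e =>
  h.tB (by simpa using mul_mem (inv_mem (h.DB hj.1)) e)
theorem J_sq {j : G} (hj : Jt D i t j) : j * j = 1 := by
  obtain ⟨-, g, rfl⟩ := hj; rw [conj_mul, h.ii]; simp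
theorem J_conj {j k : G} (hj : Jt D i t j) (hk : k ∈ D) : Jt D i t (k * j * k⁻¹) := by
  obtain ⟨h1, g, rfl⟩ := hj
  exact ⟨by simpa [mul_assoc] using mul_mem (mul_mem hk h1) (h.tdt (inv_mem hk)), k * g, by group⟩
theorem J_comm {j k : G} (hj : j * t⁻¹ ∈ D) (hk : k ∈ D) : j * k * j⁻¹ = t * k * t⁻¹ := by
  calc _ = j * t⁻¹ * (t * k * t⁻¹) * (j * t⁻¹)⁻¹ := by group
    _ = _ := by rw [(h.comm hj (h.tdt hk)).eq, mul_inv_cancel_right]

/-- pairs of an element of `J` and a fixed point -/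
def Pr (B Q D : Subgroup G) (i t : G) (a : G × G) : Prop :=
  Jt D i t a.1 ∧ a.2 ∈ Q ∧ a.1 • ((a.2 * t : G) : G ⧸ B) = (a.2 * t : G)
/-- the inverted element attached to a pair -/
def ψ (i t : G) (a : G × G) : G := (a.2 * t)⁻¹ * a.1 * (a.2 * t) * i

theorem ψ_mem {a : G × G} (ha : Pr B Q D i t a) : Yi Q i (ψ i t a) ∧ ψ i t a ≠ 1 := by
  obtain ⟨h1, h2, h3⟩ := ha
  refine ⟨h.inv_B (fix_pt.1 h3) (by
    rw [show ∀ c, c⁻¹ * a.1 * c * (c⁻¹ * a.1 * c) = c⁻¹ * (a.1 * a.1) * c from fun c => by group, h.J_sq h1]; simp)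
    fun e => h.J_notMem h1 ?_, fun e => h.J_notMem h1 ?_⟩
  · rw [show a.1 = 1 from conj_eq_one_iff.1 (by rwa [inv_inv] : _ * a.1 * (a.2 * t)⁻¹⁻¹ = 1)]; exact one_mem _
  · have : a.1 = a.2 * (t * i⁻¹ * t⁻¹) * a.2⁻¹ := by rw [← eq_inv_of_mul_eq_one_left e]; group
    rw [this]; exact mul_mem (mul_mem (h.QB h2) (h.DB (h.tdt (inv_mem h.iD)))) (inv_mem (h.QB h2))

theorem ψ_inj {a b : G × G} (ha : Pr B Q D i t a) (hb : Pr B Q D i t b) (e : ψ i t a = ψ i t b) : a = b := by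
  have h1 : a.2⁻¹ * a.1 * a.2 = b.2⁻¹ * b.1 * b.2 := by
    have := mul_right_cancel e
    calc _ = t * ((a.2 * t)⁻¹ * a.1 * (a.2 * t)) * t⁻¹ := by group
      _ = _ := by rw [this]; group
  have key : ∀ c : G × G, Pr B Q D i t c → ((c.2⁻¹ * c.1 * c.2 : G) : G ⧸ B) = (c.2⁻¹ * t : G) := fun c hc =>
    QuotientGroup.eq.2 (by
      have := mul_mem (inv_mem (h.QB hc.2.1)) (h.DB (h.tdt' (inv_mem hc.1.1)))
      rw [show t⁻¹ * (c.1 * t⁻¹)⁻¹ * t = c.1⁻¹ * t by group] at this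
      simpa [mul_assoc] using this)
  have h2 := inv_injective (h.pt_inj (inv_mem ha.2.1) (inv_mem hb.2.1) ((key a ha).symm.trans (h1 ▸ key b hb)))
  exact Prod.ext (by simpa [h2] using h1) h2

theorem ψ_surj {y : G} (hy : Yi Q i y) (h1 : y ≠ 1) : ∃ a, Pr B Q D i t a ∧ ψ i t a = y := by
  obtain ⟨z, -, h2, -⟩ := h.exists_root hy
  have h3 : t * (y * i) * t⁻¹ ∉ B := fun e => h1 (h.reg y hy.1 (by
    have := mul_mem (mul_mem (inv_mem (h.DB h.tt)) (mul_mem e (inv_mem (h.DB (h.tdt h.iD))))) (h.DB h.tt)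
    simpa [mul_assoc] using this))
  obtain ⟨x, hx, b, hb, e⟩ := h.bru _ h3
  have h4 : t * (b * x) * (t * (b * x)) = 1 := by
    calc _ = x⁻¹ * (x * t * b * (x * t * b)) * x := by group
      _ = 1 := by rw [← e, ← h2, conj_mul, conj_mul, h.ii]; simp
  have h5 : b * x ∈ D := h.mem_D (mul_mem hb (h.QB hx)) (by
    have := mul_mem (inv_mem (h.DB h.tt)) (inv_mem (mul_mem hb (h.QB hx)))
    rwa [← eq_inv_of_mul_eq_one_left (by rw [← h4]; group : t * (b * x) * t * (b * x) = 1), show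
      (t * t)⁻¹ * (t * (b * x) * t) = t⁻¹ * (b * x) * t by group] at this)
  have h6 : t * (b * x) = x⁻¹ * t * z * i * (x⁻¹ * t * z)⁻¹ := by
    calc _ = x⁻¹ * (x * t * b) * x := by group
      _ = _ := by rw [← e, ← h2]; group
  have h7 : (x⁻¹ * t)⁻¹ * (t * (b * x)) * (x⁻¹ * t) = y * i := by rw [h6, ← h2]; group
  exact ⟨(t * (b * x), x⁻¹), ⟨⟨h.tdt h5, _, h6⟩, inv_mem hx, fix_pt.2 (h7 ▸ mul_mem (h.QB hy.1) (h.DB h.iD))⟩,
    by rw [ψ, h7, mul_assoc, h.ii, mul_one]⟩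

theorem card_fixJ {j : G} (hj : Jt D i t j) :
    Nat.card {x // x ∈ Q ∧ j • ((x * t : G) : G ⧸ B) = (x * t : G)} = Nat.card ↥(Q ⊓ Ce i) + 1 := by
  rw [← h.card_pts fun ω => j • ω = ω, ← h.card_fix h.iD]
  obtain ⟨g, e⟩ := hj.2
  rw [← card_fix_conj g, ← e]
  exact card_congr_iff fun ω => and_iff_left_of_imp fun e e' => h.J_notMem hj (by subst e'; simpa using fix_pt.1 e)

theorem card_J : Nat.card {j // Jt D i t j} * (Nat.card ↥(Q ⊓ Ce i) + 1) + 1 = Nat.card {y // Yi Q i y} := by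
  rw [card_remove (p := Yi Q i) (a := 1) ⟨one_mem _, by simp⟩, ← card_rel_eq_mul_left fun j => h.card_fixJ,
    ← card_eq_of_bij (ψ i t) (fun _ => h.ψ_mem) (fun _ _ => h.ψ_inj) fun y e => h.ψ_surj e.1 e.2]
  rfl

theorem exists_Y : ∃ y, Yi Q i y ∧ y ≠ 1 := by
  by_contra! e
  refine ne_one_of_two h.i2 (h.faith h.iD fun x hx => ?_)
  obtain ⟨y, -, z, hz, h1, h2, rfl⟩ := exists_cent_mul_inv h.ii h.oddQ (fun x => h.cq (h.DB h.iD)) hx
  rw [e z ⟨hz, h2⟩, mul_one]; exact h1.symm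

theorem of_J {j : G} (hj : Jt D i t j) : OU B Q D i j p n :=
  have e : j = j * t⁻¹ * t := by group
  { h with
    tD := e ▸ mul_mem (le_normalizer hj.1) h.tD
    tB := h.J_notMem hj
    tt := h.J_sq hj ▸ one_mem _
    bru := fun g hg => by
      obtain ⟨x, hx, b, hb, rfl⟩ := h.bru g hg
      exact ⟨x, hx, _, mul_mem (h.DB (h.tdt' (inv_mem hj.1))) hb, by group⟩
    reg := fun x hx e => by
      have := h.reg _ (h.cq' (h.DB hj.1) hx) (by simpa [mul_assoc] using e)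
      exact conj_eq_one_iff.1 (by rwa [inv_inv] : _ * x * (j * t⁻¹)⁻¹⁻¹ = 1) }

theorem exists_inv : ∃ j, OU B Q D i j p n ∧ j * j = 1 ∧ ∃ g, j = g * i * g⁻¹ := by
  obtain ⟨y, h1, h2⟩ := h.exists_Y
  obtain ⟨a, h3, -⟩ := h.ψ_surj h1 h2
  exact ⟨_, h.of_J h3.1, h.J_sq h3.1, h3.1.2⟩

end OU

end Cfsg.Lib.OU
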