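import Cfsg.Agent.Lib.U3.Odd1
import Cfsg.Agent.Lib.Clifford.Orbits
import Cfsg.Agent.Lib.Core.Nilpotent

/-! O'Nan's theorem, part 2: the canonical form and the action of `D` on `Q`. -/

set_option autoImplicit false
set_option linter.unusedSectionVars false

namespace Cfsg.Lib.OU

open Subgroup Cfsg.Lib.Invol Cfsg.Lib.Transfer Cfsg.Lib.BS MulAction

variable {G : Type*} [Group G] [Finite G]

theorem dvd_conj {A W : Subgroup G} {S : G → Prop} (hS : ∀ a ∈ A, ∀ x, S x → S (a * x * a⁻¹))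
    (hW : ∀ a ∈ A, ∀ x, S x → (Commute a x ↔ a ∈ W)) : W.relIndex A ∣ Nat.card {x // S x} :=
  Clifford.dvd_ncard_of_act (H := A) (fun c a => (c : G) * a * (c : G)⁻¹) (fun _ => by simp)
    (fun _ _ _ => by simp [mul_assoc]) {a | S a} (Set.toFinite _) (fun c a ha => hS c c.2 a ha) _
    fun a ha => ⟨W.subgroupOf A, rfl, fun c => by
      rw [mul_inv_eq_iff_eq_mul]; exact (hW c c.2 a ha).symm⟩

theorem card_rel (A W : Subgroup G) : Nat.card A = W.relIndex A * Nat.card ↥(A ⊓ W) := by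
  rw [← inf_relIndex_left, mul_comm, card_mul_relIndex inf_le_left]

theorem card_orb (A : Subgroup G) (x : G) : Nat.card {y // ∃ a ∈ A, y = a * x * a⁻¹} = (Ce x).relIndex A :=
  Nat.eq_of_mul_eq_mul_right Nat.card_pos ((card_eq_mul_of_fibers (p := (· ∈ A)) (fun a => a * x * a⁻¹)
    (fun a ha => ⟨a, ha, rfl⟩) fun _ ⟨b, hb, e⟩ => card_eq_of_inverse (q := (· ∈ A ⊓ Ce x)) (b⁻¹ * ·) (b * ·)
      (fun a ha => mem_inf.2 ⟨mul_mem (inv_mem hb) ha.1, mem_cent.2 (by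
        have := ha.2.trans e
        calc b⁻¹ * a * x = b⁻¹ * (a * x * a⁻¹) * a := by group
          _ = _ := by rw [this]; group)⟩)
      (fun a ha => ⟨mul_mem hb ha.1, by rw [e, mul_assoc b, (mem_cent.1 ha.2).eq]; group⟩)
      (fun _ _ => by simp) fun _ _ => by simp).symm.trans (card_rel A _))

theorem card_ne (X : Subgroup G) : Nat.card X = Nat.card {x // x ∈ X ∧ x ≠ 1} + 1 := card_remove (one_mem X)

/-- The set-up with an involution `t` and the canonical form `t x t = f x * t * η x * g x`. -/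
structure OV (B Q D : Subgroup G) (i t : G) (p n : ℕ) (f η g : G → G) : Prop extends OU B Q D i t p n where
  t2 : t * t = 1
  tj : ∃ a, t = a * i * a⁻¹
  form : ∀ x ∈ Q, x ≠ 1 → f x ∈ Q ∧ η x ∈ D ∧ g x ∈ Q ∧ t * x * t = f x * t * η x * g x

theorem OU.exists_OV {B Q D : Subgroup G} {i t : G} {p n : ℕ} (h : OU B Q D i t p n) :
    ∃ t f η g, OV B Q D i t p n f η g := by
  obtain ⟨t, h, h2, h3⟩ := h.exists_inv
  have : ∀ x : G, ∃ a d b, x ∈ Q → x ≠ 1 → a ∈ Q ∧ d ∈ D ∧ b ∈ Q ∧ t * x * t = a * t * d * b := fun x => by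
    by_cases e : x ∈ Q ∧ x ≠ 1
    · obtain ⟨a, ha, b, hb, e1⟩ := h.bru (t * x * t) fun e' => e.2 (h.reg x e.1 (by rwa [inv_eq_of_mul_eq_one_right h2]))
      obtain ⟨y, hy, d, hd, rfl⟩ := h.dec b hb
      exact ⟨a, d, _, fun _ _ => ⟨ha, hd, h.cq' (h.DB hd) hy, by rw [e1]; group⟩⟩
    · exact ⟨1, 1, 1, fun a b => (e ⟨a, b⟩).elim⟩
  choose f η g H using this
  exact ⟨t, f, η, g, h, h2, h3, H⟩

namespace OV

variable {B Q D : Subgroup G} {i t : G} {p n : ℕ} {f η g : G → G} (h : OV B Q D i t p n f η g)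
include h

theorem t_inv : t⁻¹ = t := inv_eq_of_mul_eq_one_right h.t2
theorem ttx (x : G) : t * (t * x) = x := by rw [← mul_assoc, h.t2, one_mul]
theorem td {d : G} (hd : d ∈ D) : t * d * t ∈ D := by simpa [h.t_inv] using h.tdt hd
theorem tJ : Jt D i t t := ⟨by simp [one_mem], h.tj⟩
theorem it : Commute i t := (mul_inv_eq_iff_eq_mul.1 h.ti).symm
theorem cd {d x : G} (hd : d ∈ D) (hx : x ∈ Q) : d * x * d⁻¹ ∈ Q := h.cq (h.DB hd) hx
theorem fQ {x : G} (hx : x ∈ Q) (h1 : x ≠ 1) : f x ∈ Q := (h.form x hx h1).1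
theorem ηD {x : G} (hx : x ∈ Q) (h1 : x ≠ 1) : η x ∈ D := (h.form x hx h1).2.1
theorem gQ {x : G} (hx : x ∈ Q) (h1 : x ≠ 1) : g x ∈ Q := (h.form x hx h1).2.2.1
theorem fm {x : G} (hx : x ∈ Q) (h1 : x ≠ 1) : t * x * t = f x * t * η x * g x := (h.form x hx h1).2.2.2

theorem ne_of {x a d b : G} (ha : a ∈ Q) (hd : d ∈ D) (hb : b ∈ Q) (e : t * x * t = a * t * d * b) : x ≠ 1 := fun e1 =>
  h.tB (by
    rw [show t = a⁻¹ * (a * t * d * b) * b⁻¹ * d⁻¹ by group, ← e, e1, mul_one, h.t2, mul_one]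
    exact mul_mem (mul_mem (inv_mem (h.QB ha)) (inv_mem (h.QB hb))) (inv_mem (h.DB hd)))

theorem uniq {x a d b : G} (hx : x ∈ Q) (ha : a ∈ Q) (hd : d ∈ D) (hb : b ∈ Q) (e : t * x * t = a * t * d * b) :
    f x = a ∧ η x = d ∧ g x = b := by
  obtain ⟨h2, h3, h4, h5⟩ := h.form x hx (h.ne_of ha hd hb e)
  rw [h5] at e
  have h6 : f x = a := h.pt_inj h2 ha (QuotientGroup.eq.2 (by
    rw [show a * t = a * t * d * b * b⁻¹ * d⁻¹ by group, ← e]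
    simpa [mul_assoc] using mul_mem (h.DB h3) (mul_mem (h.QB h4) (mul_mem (inv_mem (h.QB hb)) (inv_mem (h.DB hd))))))
  rw [h6, mul_assoc, mul_assoc _ d, mul_right_inj] at e
  obtain ⟨h7, h8⟩ := h.QD_unique (h.cd h3 h4) h3 (h.cd hd hb) hd (by simpa using e)
  exact ⟨h6, h8, by simpa [h8] using h7⟩

theorem H1 {x : G} (hx : x ∈ Q) (h1 : x ≠ 1) : f x⁻¹ = (g x)⁻¹ ∧ η x⁻¹ = (t * η x * t)⁻¹ ∧ g x⁻¹ = (f x)⁻¹ :=
  h.uniq (inv_mem hx) (inv_mem (h.gQ hx h1)) (inv_mem (h.td (h.ηD hx h1))) (inv_mem (h.fQ hx h1)) (by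
    have := congrArg (·⁻¹) (h.fm hx h1)
    simpa [mul_assoc, h.t_inv, h.ttx] using this)

theorem H2' {x : G} (hx : x ∈ Q) (h1 : x ≠ 1) : t * f x * t = x * t * (η x)⁻¹ * (η x * (g x)⁻¹ * (η x)⁻¹) := by
  rw [show f x = f x * t * η x * g x * (g x)⁻¹ * (η x)⁻¹ * t⁻¹ by group, ← h.fm hx h1]
  simp [mul_assoc, h.ttx]

theorem H2 {x : G} (hx : x ∈ Q) (h1 : x ≠ 1) :
    f (f x) = x ∧ η (f x) = (η x)⁻¹ ∧ g (f x) = η x * (g x)⁻¹ * (η x)⁻¹ :=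
  h.uniq (h.fQ hx h1) hx (inv_mem (h.ηD hx h1)) (h.cd (h.ηD hx h1) (inv_mem (h.gQ hx h1))) (h.H2' hx h1)

theorem f1 {x : G} (hx : x ∈ Q) (h1 : x ≠ 1) : f x ≠ 1 :=
  h.ne_of hx (inv_mem (h.ηD hx h1)) (h.cd (h.ηD hx h1) (inv_mem (h.gQ hx h1))) (h.H2' hx h1)

theorem H3 {x k : G} (hx : x ∈ Q) (h1 : x ≠ 1) (hk : k ∈ D) : f (k * x * k⁻¹) = t * k * t * f x * (t * k * t)⁻¹ ∧
    η (k * x * k⁻¹) = k * (t * k * t)⁻¹ * η x ∧ g (k * x * k⁻¹) = t * k * t * g x * (t * k * t)⁻¹ :=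
  h.uniq (h.cd hk hx) (h.cd (h.td hk) (h.fQ hx h1)) (mul_mem (mul_mem hk (inv_mem (h.td hk))) (h.ηD hx h1))
    (h.cd (h.td hk) (h.gQ hx h1)) (by
      rw [mul_assoc k _ (η x), (h.comm (inv_mem (h.td hk)) (h.ηD hx h1)).eq,
        show t * (k * x * k⁻¹) * t = t * k * t * (t * x * t) * (t * k * t)⁻¹ by simp [mul_assoc, h.t_inv, h.ttx],
        h.fm hx h1]
      simp [mul_assoc, h.t_inv, h.ttx])

theorem H4 {a x : G} (ha : a ∈ Q) (a1 : a ≠ 1) (hx : x ∈ Q) (x1 : x ≠ 1) (h1 : g a * f x ≠ 1) :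
    f (a * x) = f a * (t * η a * t * f (g a * f x) * (t * η a * t)⁻¹) := by
  have h2 := mul_mem (h.gQ ha a1) (h.fQ hx x1)
  refine (h.uniq (mul_mem ha hx) (mul_mem (h.fQ ha a1) (h.cd (h.td (h.ηD ha a1)) (h.fQ h2 h1)))
    (mul_mem (mul_mem (h.ηD ha a1) (h.ηD h2 h1)) (h.ηD hx x1))
    (mul_mem (h.cq' (h.DB (h.ηD hx x1)) (h.gQ h2 h1)) (h.gQ hx x1)) ?_).1
  calc _ = t * a * t * (t * x * t) := by simp [mul_assoc, h.ttx]
    _ = f a * t * η a * t * (t * (g a * f x) * t) * η x * g x := by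
      rw [h.fm ha a1, h.fm hx x1]; simp [mul_assoc, h.ttx]
    _ = _ := by rw [h.fm h2 h1]; simp [mul_assoc, h.t_inv, h.ttx]

theorem cent_t {d x : G} (hd : d ∈ D) (hx : x ∈ Q) (h1 : x ≠ 1) (e : Commute d x) : Commute d t := by
  have := (h.H3 hx h1 hd).2.1
  rw [e.eq, mul_inv_cancel_right, eq_comm, mul_eq_right, mul_inv_eq_one] at this
  rw [Commute, SemiconjBy]; nth_rw 2 [this]; simp [mul_assoc, h.ttx]

theorem tct {d : G} (e : Commute d t) : t * d * t = d := by rw [← e.eq, mul_assoc, h.t2, mul_one]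

theorem fix_iff {x : G} (hx : x ∈ Q) : t • ((x * t : G) : G ⧸ B) = (x * t : G) ↔ x ≠ 1 ∧ f x = x := by
  have key : x ≠ 1 → t • ((x * t : G) : G ⧸ B) = (f x * t : G) := fun h1 => QuotientGroup.eq.2 (by
    change (t * (x * t))⁻¹ * _ ∈ B
    rw [← mul_assoc t, h.fm hx h1]
    simpa [mul_assoc] using mul_mem (inv_mem (h.QB (h.gQ hx h1))) (inv_mem (h.DB (h.ηD hx h1))))
  refine ⟨fun e => ?_, fun e => by rw [key e.1, e.2]⟩
  have h1 : x ≠ 1 := fun e1 => h.tB (by simpa [e1, h.t2] using fix_pt.1 e)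
  exact ⟨h1, h.pt_inj (h.fQ hx h1) hx ((key h1).symm.trans e)⟩

/-- The elements of `D` inverted by `t`. -/
def K : Subgroup G where
  carrier := {k | k ∈ D ∧ t * k * t = k⁻¹}
  one_mem' := ⟨one_mem _, by simp [h.t2]⟩
  mul_mem' := fun {a b} ha hb => ⟨mul_mem ha.1 hb.1, by
    rw [(h.comm ha.1 hb.1).eq, mul_inv_rev, ← ha.2, ← hb.2, ← (h.comm ha.1 hb.1).eq]; simp [mul_assoc, h.ttx]⟩
  inv_mem' := fun {a} ha => ⟨inv_mem ha.1, by rw [← ha.2]; simp [mul_assoc, h.ttx, h.t2, ← ha.2, h.t_inv]⟩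

theorem KD : h.K ≤ D := fun _ e => e.1
theorem K_t {k : G} (hk : k ∈ h.K) (e : Commute k t) : k ∈ zpowers i := by
  by_cases h1 : k = 1
  · exact h1 ▸ one_mem _
  · exact h.eq_i hk.1 (mul_eq_one_iff_eq_inv.2 ((h.tct e).symm.trans hk.2)) h1 ▸ mem_zpowers _
theorem iK : zpowers i ≤ h.K := zpowers_le.2 ⟨h.iD, (h.tct h.it).trans h.i_inv.symm⟩

theorem J_cent {j k : G} (hj : Jt D i t j) (hk : k ∈ D) : Commute k j ↔ Commute k t := by
  have := h.J_comm hj.1 hk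
  exact ⟨fun e => (mul_inv_eq_iff_eq_mul.1 (this.symm.trans (by rw [← e.eq, mul_inv_cancel_right]))).symm,
    fun e => (mul_inv_eq_iff_eq_mul.1 (this.trans (by rw [← e.eq, mul_inv_cancel_right]))).symm⟩

theorem J_le : Nat.card {j // Jt D i t j} ≤ Nat.card h.K :=
  card_le_of_inj (· * t) (fun j hj => ⟨by simpa [h.t_inv] using hj.1, eq_inv_of_mul_eq_one_left (by
    simp [mul_assoc, h.ttx, ← mul_assoc j j, h.J_sq hj, h.t2])⟩) fun _ _ _ _ e => mul_right_cancel e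

theorem K_le : Nat.card h.K ≤ (Ce t).relIndex D * 2 := by
  rw [card_rel h.K (Ce t), ← card_orb, ← card_orb, ← h.i2, ← Nat.card_zpowers]
  exact Nat.mul_le_mul (card_le_of_imp fun _ ⟨a, ha, e⟩ => ⟨a, ha.1, e⟩)
    (card_le_of_le fun k hk => h.K_t hk.1 (mem_cent.1 hk.2))

theorem a_dvd : (Ce t).relIndex D ∣ Nat.card {j // Jt D i t j} :=
  dvd_conj (fun _ hk _ hj => h.J_conj hj hk) fun _ hk _ hj => (h.J_cent hj hk).trans mem_cent.symm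

theorem J_or : Nat.card {j // Jt D i t j} = (Ce t).relIndex D ∨
    (Nat.card {j // Jt D i t j} = (Ce t).relIndex D * 2 ∧ Nat.card {j // Jt D i t j} = Nat.card h.K) := by
  obtain ⟨m, hm⟩ := h.a_dvd
  have h1 := h.J_le
  have h2 := h.K_le
  have h3 := card_pos_of (p := Jt D i t) h.tJ
  rcases m with _ | _ | _ | m
  · omega
  · omega
  · omega
  · nlinarith [Nat.pos_of_mul_pos_right (hm ▸ h3)]

theorem pQ : IsPGroup p Q := IsPGroup.of_card h.cQ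

theorem cards : Nat.card ↥(Q ⊓ Ce i) = p ^ n ∧ Nat.card {y // Yi Q i y} = p ^ n * p ^ n ∧
    Nat.card {j // Jt D i t j} + 1 = p ^ n := by
  have := Fact.mk h.pp
  obtain ⟨m, hm⟩ := (h.pQ.to_le (inf_le_left (b := Ce i))).exists_card_eq
  have h1 := card_Y h.ii h.oddQ fun x => h.cd h.iD
  have h2 := h.card_J
  have p1 := h.pp.one_lt
  have h3 := card_pos_of (p := Jt D i t) h.tJ
  rw [hm] at h2
  rw [hm, h.cQ] at h1
  have h4 : m < 3 * n := (Nat.pow_lt_pow_iff_right p1).1 (h1 ▸ lt_mul_of_one_lt_right (pow_pos h.pp.pos _) (by nlinarith))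
  have h5 : Nat.card {y // Yi Q i y} = p ^ (3 * n - m) := Nat.eq_of_mul_eq_mul_left (pow_pos h.pp.pos m) (by
    rw [← h1, ← pow_add]; congr 1; omega)
  obtain rfl : m = n := arith h.p3 h.n1 h4 (h2.trans h5) (Dvd.dvd.trans (by
    rcases h.J_or with e | ⟨-, e⟩ <;> rw [e]
    exacts [relIndex_dvd_card _ _, card_dvd_of_le h.KD]) (Dvd.intro_left _ h.cD))
  rw [show 3 * m - m = m + m by omega, pow_add] at h5
  refine ⟨hm, h5, Nat.eq_of_mul_eq_mul_right (Nat.succ_pos (p ^ m)) ?_⟩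
  rw [h5] at h2; nlinarith

theorem cC : Nat.card ↥(Q ⊓ Ce i) = p ^ n := h.cards.1
theorem a_ge : p ^ n ≤ (Ce t).relIndex D * 2 + 1 := by have := h.cards.2.2; have := h.J_le; have := h.K_le; omega
theorem normC : D ≤ normalizer ((Q ⊓ Ce i : Subgroup G) : Set G) := fun k hk => mem_norm_of fun x hx =>
  ⟨h.cd hk hx.1, mem_cent.2 (by
    have := commute_conj k (mem_cent.1 hx.2)
    rwa [(h.comm hk h.iD).eq, mul_inv_cancel_right] at this)⟩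
theorem cc {d x : G} (hd : d ∈ D) (hx : x ∈ Q ⊓ Ce i) : d * x * d⁻¹ ∈ Q ⊓ Ce i :=
  conj_mem_of_mem_normalizer (h.normC hd) hx
theorem cy {d y : G} (hd : d ∈ D) (hy : Yi Q i y) : Yi Q i (d * y * d⁻¹) := ⟨h.cd hd hy.1, by
  rw [conj_inv, ← hy.2, ← mul_assoc, ← mul_assoc, (h.comm h.iD hd).eq, mul_assoc _ d⁻¹, ← mul_inv_rev,
    (h.comm h.iD hd).eq]; group⟩
theorem exC : ∃ z ∈ Q ⊓ Ce i, z ≠ 1 := exists_of_card_pos (by have := h.q3; have := h.cC ▸ card_ne (Q ⊓ Ce i); omega)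

theorem Cmin {X : Subgroup G} (hX : X ≤ Q ⊓ Ce i) (hn : D ≤ normalizer (X : Set G)) (h1 : X ≠ ⊥) : X = Q ⊓ Ce i := by
  have := Fact.mk h.pp
  by_contra e
  have h2 := PGrp.mul_card_le_of_lt (h.pQ.to_le inf_le_left) (hX.lt_of_ne e)
  have h3 : (zpowers i).relIndex h.K ∣ Nat.card {x // x ∈ X ∧ x ≠ 1} := dvd_conj
    (fun k hk x hx => ⟨conj_mem_of_mem_normalizer (hn hk.1) hx.1, by simpa using hx.2⟩) fun k hk x hx =>
    ⟨fun e => h.K_t hk (h.cent_t hk.1 (hX hx.1).1 hx.2 e), fun e => by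
      obtain ⟨m, rfl⟩ := e; exact (mem_cent.1 (hX hx.1).2).symm.zpow_left m⟩
  have h4 := card_rel h.K (zpowers i)
  rw [inf_eq_right.2 h.iK, Nat.card_zpowers, h.i2] at h4
  have h5 := card_ne X
  have h6 := Nat.le_of_dvd (by have := (one_lt_card_iff_ne_bot _).2 h1; omega) h3
  have h7 := h.J_le
  have h8 := h.cards.2.2
  have h9 := Nat.mul_le_mul_right (Nat.card X) h.p3
  rw [h.cC] at h2; omega

theorem C_comm {x y : G} (hx : x ∈ Q ⊓ Ce i) (hy : y ∈ Q ⊓ Ce i) : Commute x y := by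
  have := Fact.mk h.pp
  obtain ⟨z, hz, z1⟩ := h.exC
  have := h.Cmin inf_le_left (norm_inf h.normC (norm_cent h.normC)) (Core.inf_centralizer_ne_bot_of_isPGroup
    (h.pQ.to_le inf_le_left) (h.pQ.to_le inf_le_left) le_normalizer fun e => z1 (mem_bot.1 (e ▸ hz)))
  exact (this.ge hy).2 x hx

theorem memW {d z c : G} (hd : d ∈ D) (hz : z ∈ Q ⊓ Ce i) (z1 : z ≠ 1) (e : Commute d z) (hc : c ∈ Q ⊓ Ce i) :
    Commute d c :=
  (mem_cent.1 ((h.Cmin (X := (Q ⊓ Ce i) ⊓ Ce d) inf_le_left (fun k hk => mem_norm_of fun x hx =>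
    ⟨h.cc hk hx.1, mem_cent.2 (by
      have := commute_conj k (mem_cent.1 hx.2)
      rwa [(h.comm hk hd).eq, mul_inv_cancel_right] at this)⟩) fun e' =>
      z1 (mem_bot.1 (e' ▸ ⟨hz, mem_cent.2 e.symm⟩))).ge hc).2).symm

theorem W_dvd : (centralizer ((Q ⊓ Ce i : Subgroup G) : Set G)).relIndex D + 1 ≤ p ^ n := by
  have h1 := h.cC ▸ card_ne (Q ⊓ Ce i)
  have := h.q3
  have := Nat.le_of_dvd (by omega) (dvd_conj (S := fun x => x ∈ Q ⊓ Ce i ∧ x ≠ 1)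
    (W := centralizer ((Q ⊓ Ce i : Subgroup G) : Set G)) (fun k hk x hx => ⟨h.cc hk hx.1, by simpa using hx.2⟩)
    fun k hk x hx => ⟨fun e c hc => (h.memW hk hx.1 hx.2 e hc).symm, fun e => (e x hx.1).symm⟩)
  omega

theorem W_le : D ⊓ centralizer ((Q ⊓ Ce i : Subgroup G) : Set G) ≤ D ⊓ Ce t := fun _ hd =>
  let ⟨z, hz, z1⟩ := h.exC; ⟨hd.1, mem_cent.2 (h.cent_t hd.1 hz.1 z1 (hd.2 z hz).symm)⟩

theorem W_mul : (D ⊓ centralizer ((Q ⊓ Ce i : Subgroup G) : Set G)).relIndex (D ⊓ Ce t) * (Ce t).relIndex D + 1 ≤ p ^ n := by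
  have h2 := relIndex_mul_relIndex _ _ _ h.W_le (inf_le_left (a := D) (b := Ce t))
  rw [inf_relIndex_left, inf_relIndex_left] at h2
  exact h2 ▸ h.W_dvd

theorem semiW {d y : G} (hd : d ∈ D) (hc : ∀ c ∈ Q ⊓ Ce i, Commute d c) (hy : Yi Q i y) (h1 : y ≠ 1)
    (e : Commute d y) : d = 1 := by
  have := Fact.mk h.pp
  have dt : Commute d t := mem_cent.1 (h.W_le ⟨hd, fun c e => (hc c e).symm⟩).2
  have di := h.comm hd h.iD
  obtain ⟨⟨j, x⟩, ha, e1⟩ := h.ψ_surj hy h1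
  have dψ : ∀ a, OU.Pr B Q D i t a → Commute d a.2 → Commute d (OU.ψ i t a) := fun a ha e =>
    (((e.mul_right dt).inv_right.mul_right ((h.J_cent ha.1 hd).2 dt)).mul_right (e.mul_right dt)).mul_right di
  have dj := (h.J_cent ha.1 hd).2 dt
  have dx : Commute d x := mul_inv_eq_iff_eq_mul.1 (congrArg Prod.snd (h.ψ_inj (a := (j, d * x * d⁻¹))
    ⟨ha.1, h.cd hd ha.2.1, by
      rw [← h.smul_D hd, ← mul_smul, ← dj.eq, mul_smul]; exact congrArg _ ha.2.2⟩ ha (by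
      rw [e1, ← mul_inv_cancel_right y d, ← e.eq, ← e1]
      calc _ = t⁻¹ * d * x⁻¹ * (d⁻¹ * (j * d)) * x * (d⁻¹ * t * i) := by simp [OU.ψ, mul_assoc]
        _ = _ := by rw [← dt.inv_right.eq, ← dj.eq, mul_assoc d⁻¹ t, (dt.mul_right di).inv_left.eq]; simp [OU.ψ, mul_assoc])))
  obtain ⟨z, -, h2, h3⟩ := h.exists_root hy
  have h4 : j = x * t * z * i * (x * t * z)⁻¹ := by
    calc _ = x * t * (OU.ψ i t (j, x) * i⁻¹) * (x * t)⁻¹ := by simp [OU.ψ, mul_assoc]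
      _ = _ := by rw [e1, h.i_inv, ← h2]; group
  have key : ∀ k ∈ D, ∀ w ∈ Q, (k * j * k⁻¹) • ((w * t : G) : G ⧸ B) = (w * t : G) → Commute d w := fun k hk w hw e2 => by
    have h5 := ((h.comm hd hk).mul_right ((dx.mul_right dt).mul_right (h3 d e))).inv_right
    rw [h4, show k * (x * t * z * i * (x * t * z)⁻¹) * k⁻¹ = (k * (x * t * z))⁻¹⁻¹ * (i * (k * (x * t * z))⁻¹) by group,
      mul_smul, inv_smul_eq_iff, mul_smul] at e2
    refine (h.fix_D hd hw).1 (smul_left_cancel (k * (x * t * z))⁻¹ ?_)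
    rw [← mul_smul, ← h5.eq, mul_smul]
    rcases h.pts ((k * (x * t * z))⁻¹ • ((w * t : G) : G ⧸ B)) with e3 | ⟨v, hv, e3⟩ <;> rw [e3] at e2 ⊢
    exacts [h.smul_one (h.DB hd), (h.fix_D hd hv).2 (hc v ⟨hv, mem_cent.2 ((h.fix_D h.iD hv).1 e2).symm⟩)]
  have h5 := card_rel_eq_mul_left (p := fun j' => ∃ k ∈ D, j' = k * j * k⁻¹) (fun j' ⟨k, hk, e⟩ =>
    h.card_fixJ (e ▸ h.J_conj ha.1 hk))
  have h6 := card_le_of_inj (q := fun y => Yi (Q ⊓ Ce d) i y ∧ y ≠ 1) (p := fun b : G × G => (∃ k ∈ D, b.1 = k * j * k⁻¹) ∧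
    b.2 ∈ Q ∧ b.1 • ((b.2 * t : G) : G ⧸ B) = (b.2 * t : G)) (OU.ψ i t) (fun b ⟨⟨k, hk, e⟩, hb⟩ =>
      have hb' : OU.Pr B Q D i t b := ⟨e ▸ h.J_conj ha.1 hk, hb⟩
      ⟨⟨⟨(h.ψ_mem hb').1.1, mem_cent.2 (dψ b hb' (key k hk _ hb.1 (e ▸ hb.2))).symm⟩, (h.ψ_mem hb').1.2⟩, (h.ψ_mem hb').2⟩)
    fun b b' ⟨⟨k, hk, e⟩, hb⟩ ⟨⟨k', hk', e'⟩, hb'⟩ =>
      h.ψ_inj ⟨e ▸ h.J_conj ha.1 hk, hb⟩ ⟨e' ▸ h.J_conj ha.1 hk', hb'⟩
  have h7 := card_Y (X := Q ⊓ Ce d) h.ii (h.oddQ.of_dvd_nat (card_dvd_of_le inf_le_left)) fun x hx =>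
    ⟨h.cd h.iD hx.1, mem_cent.2 ((di.mul_right (mem_cent.1 hx.2).symm).mul_right di.inv_right).symm⟩
  rw [h5, card_orb, ← inf_relIndex_left, show D ⊓ Ce j = D ⊓ Ce t from ext fun k => and_congr_right fun hk =>
    mem_cent.trans ((h.J_cent ha.1 hk).trans mem_cent.symm), inf_relIndex_left, h.cC] at h6
  rw [show Q ⊓ Ce d ⊓ Ce i = Q ⊓ Ce i from le_antisymm (inf_le_inf_right _ inf_le_left) fun c e =>
    ⟨⟨e.1, mem_cent.2 (hc c e).symm⟩, e.2⟩, h.cC, card_remove (p := Yi (Q ⊓ Ce d) i) (a := 1) ⟨one_mem _, by simp⟩] at h7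
  refine h.faith hd fun w hw => by_contra fun e2 => ?_
  have h8 := PGrp.mul_card_le_of_lt h.pQ ((inf_le_left (b := Ce d)).lt_of_ne fun e => e2 (mem_cent.1 (e.ge hw).2).symm)
  rw [h7, h.cQ, show p ^ (3 * n) = p ^ n * (p ^ n * p ^ n) by ring, mul_left_comm] at h8
  have h9 := Nat.le_of_mul_le_mul_left h8 (pow_pos h.pp.pos n)
  have := Nat.mul_le_mul_right (p ^ n + 1) h.a_ge
  have := (Nat.mul_le_mul h.p3 (Nat.succ_le_succ h6)).trans h9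
  nlinarith

theorem semiY {d y : G} (hd : d ∈ D) (hy : Yi Q i y) (h1 : y ≠ 1) (e : Commute d y) : d = 1 := by
  have h2 : d ∈ D ⊓ Ce t := ⟨hd, mem_cent.2 (h.cent_t hd hy.1 h1 e)⟩
  have h3 := h.W_mul
  have h4 := h.a_ge
  have h5 : d * d ∈ D ⊓ centralizer ((Q ⊓ Ce i : Subgroup G) : Set G) := by
    have := Nat.pos_of_ne_zero (index_ne_zero_of_finite (H := (Ce t).subgroupOf D))
    have := Nat.pos_of_ne_zero (index_ne_zero_of_finite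
      (H := (D ⊓ centralizer ((Q ⊓ Ce i : Subgroup G) : Set G)).subgroupOf (D ⊓ Ce t)))
    rcases (by rw [relIndex, relIndex] at h3; rw [relIndex] at h4 ⊢; by_contra! e; nlinarith [h.q3,
      show 3 ≤ _ from lt_of_le_of_ne (e.1.lt_of_le' this) e.2.symm] :
      (D ⊓ centralizer ((Q ⊓ Ce i : Subgroup G) : Set G)).relIndex (D ⊓ Ce t) = 1 ∨ _ = 2) with e | e
    exacts [relIndex_eq_one.1 e (mul_mem h2 h2), mul_self_mem_of_index_two e (⟨d, h2⟩ : ↥(D ⊓ Ce t))]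
  by_contra e1
  obtain rfl := h.eq_i hd (h.semiW h5.1 (fun c hc => (h5.2 c hc).symm) hy h1 (e.mul_left e)) e1
  exact h1 (eq_one_of_mul_self (h.odd hy.1) (mul_eq_one_iff_eq_inv.2 (by rw [← hy.2, e.eq, mul_inv_cancel_right])))

theorem memC {d x : G} (hd : d ∈ D) (h1 : d ≠ 1) (hx : x ∈ Q) (e : Commute d x) : x ∈ Q ⊓ Ce i := by
  have di := h.comm hd h.iD
  obtain ⟨c, hc, y, hy, h2, h3, rfl⟩ := exists_cent_mul_inv (X := Q ⊓ Ce d) h.ii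
    (h.oddQ.of_dvd_nat (card_dvd_of_le inf_le_left)) (fun x hx =>
      ⟨h.cd h.iD hx.1, mem_cent.2 ((di.mul_right (mem_cent.1 hx.2).symm).mul_right di.inv_right).symm⟩)
    ⟨hx, mem_cent.2 e.symm⟩
  rw [by_contra fun e1 => h1 (h.semiY hd ⟨hy.1, h3⟩ e1 (mem_cent.1 hy.2).symm), mul_one]
  exact ⟨hc.1, mem_cent.2 h2⟩

theorem notC {x : G} (hx : x ∈ Q ⊓ Ce i) (h1 : x ≠ 1) : f x ≠ x := fun e => by
  obtain ⟨h2, h3⟩ := h.ψ_mem (a := (t, x)) ⟨h.tJ, hx.1, (h.fix_iff hx.1).2 ⟨h1, e⟩⟩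
  have h4 := (mem_cent.1 hx.2).symm.mul_right h.it
  have h5 : Commute i (OU.ψ i t (t, x)) := ((h4.inv_right.mul_right h.it).mul_right h4).mul_right (Commute.refl i)
  exact h3 (eq_one_of_mul_self (h.odd h2.1) (mul_eq_one_iff_eq_inv.2 (by rw [← h2.2, h5.eq, mul_inv_cancel_right])))

theorem V_dvd : Nat.card ↥(D ⊓ Ce t) ∣ p ^ n + 1 := by
  rw [← h.cC, ← h.card_fixJ h.tJ, ← relIndex_bot_left]
  refine dvd_conj (fun k hk x hx => ⟨h.cd hk.1 hx.1, ?_⟩) fun k hk x hx => ⟨fun e => by_contra fun e1 => ?_,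
    fun e => mem_bot.1 e ▸ Commute.one_left x⟩
  · rw [← h.smul_D hk.1, ← mul_smul, ← (mem_cent.1 hk.2).eq, mul_smul, hx.2]
  exact h.notC (h.memC hk.1 e1 hx.1 e) ((h.fix_iff hx.1).1 hx.2).1 ((h.fix_iff hx.1).1 hx.2).2

theorem a_eq : (Ce t).relIndex D + 1 = p ^ n := by
  have h1 := h.cards.2.2
  rcases h.J_or with e | ⟨e, -⟩
  · exact e ▸ h1
  obtain ⟨m, hm⟩ := h.V_dvd
  have h2 := h.cD
  have h3 := Nat.pos_of_ne_zero (index_ne_zero_of_finite (H := (Ce t).subgroupOf D))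
  rw [card_rel D (Ce t), mul_comm 2, pow_mul, show (p ^ n) ^ 2 - 1 = _ from Nat.sq_sub_sq _ 1, show p ^ n - 1 = (Ce t).relIndex D * 2 by omega,
    mul_left_comm, mul_left_comm (p ^ n + 1)] at h2
  have h4 := Nat.eq_of_mul_eq_mul_left h3 h2
  nth_rw 2 [hm] at h4
  rw [mul_comm, mul_assoc] at h4
  have h5 := Nat.eq_of_mul_eq_mul_left Nat.card_pos h4
  have := (Nat.dvd_prime Nat.prime_three).1 (Nat.gcd_dvd_left 3 (p ^ n + 1))
  omega

theorem Vc {d c : G} (hd : d ∈ D) (e : Commute d t) (hc : c ∈ Q ⊓ Ce i) : Commute d c := by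
  have h1 := h.W_mul
  have h2 := h.a_eq
  have h3 := Nat.pos_of_ne_zero (index_ne_zero_of_finite
    (H := (D ⊓ centralizer ((Q ⊓ Ce i : Subgroup G) : Set G)).subgroupOf (D ⊓ Ce t)))
  have := h.q3
  exact ((relIndex_eq_one.1 (le_antisymm (by nlinarith) h3) ⟨hd, mem_cent.2 e⟩).2 c hc).symm

theorem transC {z w : G} (hz : z ∈ Q ⊓ Ce i) (z1 : z ≠ 1) (hw : w ∈ Q ⊓ Ce i) (w1 : w ≠ 1) :
    ∃ k ∈ D, w = k * z * k⁻¹ := by
  obtain ⟨_, e, rfl⟩ := surj_of_inj_of_card_le (p := fun y => ∃ k ∈ D, y = k * z * k⁻¹) (q := fun x => x ∈ Q ⊓ Ce i ∧ x ≠ 1)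
    id (fun _ ⟨k, hk, e⟩ => e ▸ ⟨h.cc hk hz, by simpa using z1⟩) (fun _ _ _ _ e => e) (by
      rw [card_orb, ← inf_relIndex_left, show D ⊓ Ce z = D ⊓ Ce t from ext fun k => and_congr_right fun hk =>
        ⟨fun e => mem_cent.2 (h.cent_t hk hz.1 z1 (mem_cent.1 e)), fun e => mem_cent.2 (h.Vc hk (mem_cent.1 e) hz)⟩,
        inf_relIndex_left]
      have := h.a_eq; have := h.cC ▸ card_ne (Q ⊓ Ce i); omega) w ⟨hw, w1⟩
  exact e

theorem transJ {j : G} (hj : Jt D i t j) : ∃ k ∈ D, j = k * t * k⁻¹ := by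
  obtain ⟨_, e, rfl⟩ := surj_of_inj_of_card_le (p := fun y => ∃ k ∈ D, y = k * t * k⁻¹) (q := Jt D i t)
    id (fun _ ⟨k, hk, e⟩ => e ▸ h.J_conj h.tJ hk) (fun _ _ _ _ e => e) (by
      rw [card_orb]; have := h.a_eq; have := h.cards.2.2; omega) j hj
  exact e

end OV

end Cfsg.Lib.OU
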