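import Cfsg.Agent.Lib.U3.Odd2
import Cfsg.Agent.Lib.U3.Basic

/-! O'Nan's theorem, part 3: the structure of `Q`, field coordinates and the fixed points of `t`. -/

set_option autoImplicit false
set_option linter.unusedSectionVars false

namespace Cfsg.Lib.OU

open Subgroup Cfsg.Lib.Invol Cfsg.Lib.Transfer Cfsg.Lib.BS Cfsg.Lib.Forms MulAction
open scoped commutatorElement

variable {G : Type*} [Group G] [Finite G]

namespace OV

variable {B Q D : Subgroup G} {i t : G} {p n : ℕ} {f η g : G → G} (h : OV B Q D i t p n f η g)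
include h

theorem dcm {X : Subgroup G} (hX : X ≤ Q) (hn : D ≤ normalizer (X : Set G)) {x : G} (hx : x ∈ X) :
    ∃ c ∈ X ⊓ Ce i, ∃ y, Yi X i y ∧ x = c * y :=
  let ⟨c, hc, y, hy, h1, h2, e⟩ := exists_cent_mul_inv h.ii (h.oddQ.of_dvd_nat (card_dvd_of_le hX))
    (fun _ => conj_mem_of_mem_normalizer (hn h.iD)) hx
  ⟨c, ⟨hc, mem_cent.2 h1⟩, y, ⟨hy, h2⟩, e⟩

theorem dQ {x : G} (hx : x ∈ Q) : ∃ c ∈ Q ⊓ Ce i, ∃ y, Yi Q i y ∧ x = c * y := h.dcm le_rfl (h.DB.trans h.norm) hx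

theorem Y_notC {y : G} (hy : Yi Q i y) (h1 : y ≠ 1) : y ∉ Q ⊓ Ce i := fun e => h1 (eq_one_of_mul_self (h.odd hy.1)
  (mul_eq_one_iff_eq_inv.2 (by rw [← hy.2, ← (mem_cent.1 e.2).eq, mul_inv_cancel_right])))

theorem Ymin {X : Subgroup G} (hX : X ≤ Q) (hn : D ≤ normalizer (X : Set G)) {y : G} (hy : Yi X i y) (h1 : y ≠ 1)
    {w : G} (hw : Yi Q i w) : w ∈ X := by
  obtain ⟨m, hm⟩ : Nat.card D ∣ Nat.card {y // Yi X i y ∧ y ≠ 1} := relIndex_bot_left D ▸ dvd_conj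
    (fun k hk x hx => ⟨⟨conj_mem_of_mem_normalizer (hn hk) hx.1.1, (h.cy hk ⟨hX hx.1.1, hx.1.2⟩).2⟩, by simpa using hx.2⟩)
    fun k hk x hx => ⟨h.semiY hk ⟨hX hx.1.1, hx.1.2⟩ hx.2, fun e => mem_bot.1 e ▸ Commute.one_left x⟩
  have h2 := card_remove (p := Yi X i) (a := 1) ⟨one_mem _, by simp⟩
  have h3 := card_pos_of (p := fun y => Yi X i y ∧ y ≠ 1) ⟨hy, h1⟩
  obtain ⟨k, -, hk⟩ := (Nat.dvd_prime_pow h.pp).1 (h.cQ ▸ (Dvd.intro_left _ (card_Y h.ii (h.oddQ.of_dvd_nat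
    (card_dvd_of_le hX)) fun _ => conj_mem_of_mem_normalizer (hn h.iD)).symm).trans (card_dvd_of_le hX))
  have h4 := card_le_of_imp (p := Yi X i) (q := Yi Q i) fun y e => ⟨hX e.1, e.2⟩
  have h5 := h.cD
  have h6 := h.cards.2.1
  have h7 : p ^ (2 * n) = p ^ n * p ^ n := by ring
  have h8 := h.q3
  have h9 : m ≤ Nat.gcd 3 (p ^ n + 1) := Nat.le_of_mul_le_mul_left (by rw [mul_comm _ (Nat.gcd _ _)]; omega)
    (Nat.card_pos (α := D))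
  obtain ⟨r, hr⟩ := Nat.exists_eq_add_of_le h9
  have h10 : p ^ k + r * Nat.card D = p ^ (2 * n) := by
    rw [hr, add_mul, mul_comm m] at h5; have := Nat.pos_of_ne_zero (pow_ne_zero (2 * n) h.pp.ne_zero); omega
  have h11 : p ∣ r := ((h.pp.dvd_mul.1 ((Nat.dvd_add_right (dvd_pow_self p fun e => by rw [e, pow_zero] at hk; omega)).1
    (h10 ▸ dvd_pow_self p (by have := h.n1; omega)))).resolve_right fun e => h.pp.one_lt.ne' (Nat.dvd_one.1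
      ((Nat.dvd_add_right (e.mul_left (Nat.gcd 3 (p ^ n + 1)))).1 (by
        rw [h5, Nat.sub_add_cancel (by omega)]; exact dvd_pow_self p (by have := h.n1; omega)))))
  obtain rfl : r = 0 := Nat.eq_zero_of_dvd_of_lt h11 (by
    have := Nat.gcd_le_left (m := 3) (p ^ n + 1) (by omega)
    have := h.p3
    have := Nat.pos_of_mul_pos_left (hm ▸ h3); omega)
  obtain ⟨_, e, rfl⟩ := surj_of_inj_of_card_le (p := Yi X i) (q := Yi Q i) id (fun y e => ⟨hX e.1, e.2⟩)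
    (fun _ _ _ _ e => e) (by omega) w hw
  exact e.1

theorem CZ {c x : G} (hc : c ∈ Q ⊓ Ce i) (hx : x ∈ Q) : Commute c x := by
  have := Fact.mk h.pp
  have hn := h.DB.trans h.norm
  have hZ := norm_inf hn (norm_cent hn)
  obtain ⟨y, hy, y1⟩ := h.exists_Y
  obtain ⟨⟨z, hz⟩, z1⟩ := ne_bot_iff_exists_ne_one.1 (Core.inf_centralizer_ne_bot_of_isPGroup h.pQ h.pQ le_normalizer
    fun e => y1 (mem_bot.1 (e ▸ hy.1)))
  obtain ⟨d, hd, w, hw, rfl⟩ := h.dcm inf_le_left hZ hz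
  by_cases w1 : w = 1
  · exact (((h.Cmin (X := (Q ⊓ Ce i) ⊓ centralizer Q) inf_le_left (norm_inf h.normC (norm_cent hn)) fun e => z1
      (Subtype.ext (by simpa [w1] using mem_bot.1 (e ▸ ⟨⟨hd.1.1, hd.2⟩, hd.1.2⟩)))).ge hc).2 x hx).symm
  obtain ⟨c', hc', y', hy', rfl⟩ := h.dQ hx
  exact (h.C_comm hc hc').mul_right ((h.Ymin inf_le_left hZ hw w1 hy').2 c hc.1)

theorem comm_le : ⁅Q, Q⁆ ≤ Q ⊓ Ce i := commutator_le.2 fun x hx x' hx' => by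
  obtain ⟨c, hc, y, hy, rfl⟩ := h.dQ hx
  obtain ⟨c', hc', y', hy', rfl⟩ := h.dQ hx'
  obtain ⟨d, hd, w, hw, e⟩ := h.dQ (mul_mem hy.1 hy'.1)
  have h1 : y⁻¹ * y'⁻¹ = d * w⁻¹ := by
    rw [← hy.2, ← hy'.2, ← hw.2, conj_mul, e, ← conj_mul, ← (mem_cent.1 hd.2).eq, mul_inv_cancel_right]
  have : ⁅c * y, c' * y'⁆ = d * d := by
    calc _ = c * (y * (c' * y') * y⁻¹ * c⁻¹) * y'⁻¹ * c'⁻¹ := by group
      _ = c' * (y * y' * (y⁻¹ * y'⁻¹)) * c'⁻¹ := by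
        rw [← (h.CZ (inv_mem hc) (mul_mem (mul_mem hy.1 hx') (inv_mem hy.1))).eq, mul_inv_cancel_left, ← mul_assoc y,
          ← (h.CZ hc' hy.1).eq]; group
      _ = _ := by
        rw [h1, e, mul_assoc d, ← mul_assoc w, ← (h.CZ hd hw.1).eq, mul_inv_cancel_right,
          (h.C_comm hc' (mul_mem hd hd)).eq, mul_inv_cancel_right]
  exact this ▸ mul_mem hd hd

theorem fC {z : G} (hz : z ∈ Q ⊓ Ce i) (z1 : z ≠ 1) : f z ∈ Q ⊓ Ce i := by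
  have := (h.H3 hz.1 z1 h.iD).1
  rw [← (mem_cent.1 hz.2).eq, mul_inv_cancel_right, h.tct h.it] at this
  exact ⟨h.fQ hz.1 z1, mem_cent.2 (eq_mul_inv_iff_mul_eq.1 this)⟩

theorem ne1 {x : G} (h0 : x ∉ Q ⊓ Ce i) : x ≠ 1 := fun e => h0 (e ▸ one_mem _)
theorem f_notC {x : G} (hx : x ∈ Q) (h0 : x ∉ Q ⊓ Ce i) : f x ∉ Q ⊓ Ce i := fun e =>
  h0 ((h.H2 hx (h.ne1 h0)).1 ▸ h.fC e (h.f1 hx (h.ne1 h0)))
theorem ktk {k : G} (hk : k ∈ D) : Commute (k * (t * k * t)) t := by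
  rw [Commute, SemiconjBy]; nth_rw 1 [(h.comm hk (h.td hk)).eq]
  rw [← (h.comm hk (h.td hk)).eq]; nth_rw 2 [(h.comm hk (h.td hk)).eq]; simp [mul_assoc, h.ttx, h.t2]

theorem exists_neg : ∃ k ∈ D, k * (t * k * t)⁻¹ = i ∧ (∀ c ∈ Q ⊓ Ce i, k * c * k⁻¹ = c⁻¹) ∧
    ∀ c ∈ Q ⊓ Ce i, t * k * t * c * (t * k * t)⁻¹ = c⁻¹ := by
  obtain ⟨z, hz, z1⟩ := h.exC
  obtain ⟨k, hk, e⟩ := h.transC hz z1 (inv_mem hz) (inv_ne_one.2 z1)
  have h1 : ∀ c ∈ Q ⊓ Ce i, k * c * k⁻¹ = c⁻¹ := fun c hc => by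
    by_cases c1 : c = 1
    · simp [c1]
    obtain ⟨d, hd, rfl⟩ := h.transC hz z1 hc c1
    rw [conj_inv, e, ← mul_assoc, ← mul_assoc, (h.comm hk hd).eq, mul_assoc _ d⁻¹, ← mul_inv_rev, (h.comm hk hd).eq]; group
  have h2 : Commute (k * k) z := mul_inv_eq_iff_eq_mul.1 (by
    rw [mul_inv_rev, ← mul_assoc, mul_assoc k k, mul_assoc k (k * z), h1 z hz, h1 _ (inv_mem hz), inv_inv])
  refine ⟨k, hk, h.eq_i (mul_mem hk (inv_mem (h.td hk))) ?_ fun e1 => z1 (eq_one_of_mul_self (h.odd hz.1) ?_), h1,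
    fun c hc => ?_⟩
  · rw [(h.comm (inv_mem (h.td hk)) hk).mul_mul_mul_comm, ← mul_inv_rev, show t * k * t * (t * k * t) = t * (k * k) * t by simp [mul_assoc, h.ttx],
      h.tct (h.cent_t (mul_mem hk hk) hz.1 z1 h2), mul_inv_cancel]
  · have : Commute k t := by rw [Commute, SemiconjBy]; nth_rw 2 [mul_inv_eq_one.1 e1]; simp [mul_assoc, h.ttx]
    rw [mul_eq_one_iff_eq_inv, e, (h.Vc hk this hz).eq, mul_inv_cancel_right]
  · have := (h.Vc (mul_mem hk (h.td hk)) (h.ktk hk) hc).eq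
    calc _ = k⁻¹ * (k * (t * k * t) * c * (k * (t * k * t))⁻¹) * k := by group
      _ = k⁻¹ * (k * c⁻¹ * k⁻¹) * k := by rw [this, h1 _ (inv_mem hc), mul_inv_cancel_right, inv_inv]
      _ = _ := by group

theorem gC {z : G} (hz : z ∈ Q ⊓ Ce i) (z1 : z ≠ 1) : g z = f z := by
  obtain ⟨k, hk, -, h1, h2⟩ := h.exists_neg
  rw [← inv_inj, ← (h.H1 hz.1 z1).1, ← h1 z hz, (h.H3 hz.1 z1 hk).1, h2 _ (h.fC hz z1)]

theorem ηη {z : G} (hz : z ∈ Q ⊓ Ce i) (z1 : z ≠ 1) : η z * (t * η z * t) = i := by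
  obtain ⟨k, hk, h0, h1, -⟩ := h.exists_neg
  have := (h.H1 hz.1 z1).2.1
  rw [← h1 z hz, (h.H3 hz.1 z1 hk).2.1, h0] at this
  rw [← h.i_inv, eq_inv_iff_mul_eq_one, ← (h.comm h.iD (mul_mem (h.ηD hz.1 z1) (h.td (h.ηD hz.1 z1)))).eq, ← mul_assoc,
    this, inv_mul_cancel]

theorem fix_η {x : G} (hx : x ∈ Q) (h1 : x ≠ 1) (e : f x = x) : η x = i := by
  obtain ⟨-, h2, h3⟩ := h.H2 hx h1
  rw [e] at h2 h3
  refine h.eq_i (h.ηD hx h1) (mul_eq_one_iff_eq_inv.2 h2) fun e1 => h.tB ?_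
  have h4 := h.fm hx h1
  rw [e1, one_mul, inv_one, mul_one] at h3
  rw [e, e1, eq_one_of_mul_self (h.odd (h.gQ hx h1)) (mul_eq_one_iff_eq_inv.2 h3), mul_one, mul_one, mul_left_inj,
    mul_eq_right] at h4
  exact h4 ▸ one_mem _

end OV

/-- The set-up with field coordinates. -/
structure OW (B Q D : Subgroup G) (i t : G) (p n : ℕ) (f η g : G → G) {E : Type} [Field E] (σ : E →+* E)
    (ρ l v : G → E) : Prop extends OV B Q D i t p n f η g where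
  sec : Sec D Q (Q ⊓ Ce i) ρ l
  cj : IsConj σ (p ^ n)
  v1 : v 1 = 0
  vC : ∀ z ∈ Q ⊓ Ce i, z ≠ 1 → v z = l (η z)
  vQ : ∀ x ∈ Q, x ∉ Q ⊓ Ce i → v x * ρ (f x) = -ρ x

theorem OV.exists_OW {B Q D : Subgroup G} {i t : G} {p n : ℕ} {f η g : G → G} (h : OV B Q D i t p n f η g) :
    ∃ (E : Type) (_ : Field E) (_ : Fintype E) (σ : E →+* E) (ρ l v : G → E), OW B Q D i t p n f η g σ ρ l v := by
  classical
  have := PGrp.isMulCommutative_of_isCyclic h.cyc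
  obtain ⟨y, hy, y1⟩ := h.exists_Y
  obtain ⟨E, _, _, ρ, l, hs⟩ := exists_sec (inf_le_left.lt_of_ne fun e => h.Y_notC hy y1 (e.ge hy.1)) (h.DB.trans h.norm)
    h.normC h.comm_le fun X h1 h2 h3 => or_iff_not_imp_left.2 fun e => le_antisymm h2 fun x hx => by
      obtain ⟨w, hw, h4⟩ := SetLike.exists_of_lt (h1.lt_of_ne' e)
      obtain ⟨c, hc, u, hu, rfl⟩ := h.dcm h2 h3 hw
      obtain ⟨c', hc', y, hy, rfl⟩ := h.dQ hx
      exact mul_mem (h1 hc') (h.Ymin h2 h3 hu (fun e => h4 (by rw [e, mul_one]; exact ⟨h2 hc.1, hc.2⟩)) hy)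
  have h1 := hs.card
  rw [h.cC, h.cQ, show p ^ (3 * n) = p ^ n * (p ^ n) ^ 2 by ring] at h1
  refine ⟨E, _, inferInstance, _, ρ, l, fun x => if x = 1 then 0 else if x ∈ Q ⊓ Ce i then l (η x) else -ρ x / ρ (f x), h, hs,
    isConj_frob (Nat.eq_of_mul_eq_mul_left (pow_pos h.pp.pos n) h1).symm, if_pos rfl,
    fun z hz z1 => by rw [if_neg z1, if_pos hz], fun x hx h0 => ?_⟩
  rw [if_neg (h.ne1 h0), if_neg h0, div_mul_cancel₀ _ fun e => h.f_notC hx h0 ((hs.ker _ (h.fQ hx (h.ne1 h0))).1 e)]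

end Cfsg.Lib.OU
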