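import Cfsg.Agent.Lib.U3.Odd3

/-! O'Nan's theorem, part 4: the coordinate `v` and the fixed points of `t`. -/

set_option autoImplicit false
set_option linter.unusedSectionVars false

namespace Cfsg.Lib.OU

open Subgroup Cfsg.Lib.Invol Cfsg.Lib.Transfer Cfsg.Lib.BS Cfsg.Lib.Forms MulAction
open scoped commutatorElement

variable {G : Type*} [Group G] [Finite G]

namespace OW

variable {B Q D : Subgroup G} {i t : G} {p n : ℕ} {f η g : G → G} {E : Type} [Field E] {σ : E →+* E}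
  {ρ l v : G → E} (h : OW B Q D i t p n f η g σ ρ l v)
include h

theorem ρ0 {x : G} (hx : x ∈ Q) (h0 : x ∉ Q ⊓ Ce i) : ρ x ≠ 0 := fun e => h0 ((h.sec.ker x hx).1 e)
theorem ρf0 {x : G} (hx : x ∈ Q) (h0 : x ∉ Q ⊓ Ce i) : ρ (f x) ≠ 0 := h.ρ0 (h.fQ hx (h.ne1 h0)) (h.f_notC hx h0)
theorem mulC {z x : G} (hz : z ∈ Q ⊓ Ce i) (h0 : x ∉ Q ⊓ Ce i) : z * x ∉ Q ⊓ Ce i := by rwa [mul_mem_cancel_left hz]

theorem l_inj {k : G} (hk : k ∈ D) (e : l k = 1) : k = 1 := by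
  obtain ⟨y, hy, y1⟩ := h.exists_Y
  have h1 := h.cy hk hy
  have h2 := (h.sec.eq_iff (inv_mem h1.1) (inv_mem hy.1)).1 (by
    rw [h.sec.inv h1.1, h.sec.inv hy.1, h.sec.conj k hk y hy.1, e, one_mul])
  exact h.semiY hk hy y1 (mul_inv_eq_iff_eq_mul.1 (cent_mul_inv_unique (h.odd h1.1) (h.odd hy.1) (Commute.one_left i)
    h1.2 (mem_cent.1 h2.2) hy.2 (by group)).2)

theorem l_inj' {k k' : G} (hk : k ∈ D) (hk' : k' ∈ D) (e : l k = l k') : k = k' :=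
  mul_inv_eq_one.1 (h.l_inj (mul_mem hk (inv_mem hk')) (by
    rw [h.sec.χ_mul hk (inv_mem hk'), h.sec.χ_inv hk', e, mul_inv_cancel₀ (h.sec.χ_ne hk')]))

theorem li : l i = -1 := by
  obtain ⟨y, hy, y1⟩ := h.exists_Y
  have := h.sec.conj i h.iD y hy.1
  rw [hy.2, h.sec.inv hy.1] at this
  exact mul_right_cancel₀ (h.ρ0 hy.1 (h.Y_notC hy y1)) (by rw [← this, neg_one_mul])

theorem two : (2 : E) ≠ 0 := fun e => ne_one_of_two h.i2 (h.l_inj h.iD (by rw [h.li]; linear_combination -e))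

theorem ν0 {k : G} (hk : k ∈ D) : l (k * (t * k * t)⁻¹) ≠ 0 := h.sec.χ_ne (mul_mem hk (inv_mem (h.td hk)))
theorem ν_mul {k : G} (hk : k ∈ D) : l (k * (t * k * t)⁻¹) * l (t * k * t) = l k := by
  rw [← h.sec.χ_mul (mul_mem hk (inv_mem (h.td hk))) (h.td hk), inv_mul_cancel_right]

theorem ν_real {k : G} (hk : k ∈ D) : σ (l (k * (t * k * t)⁻¹)) = l (k * (t * k * t)⁻¹) := by
  have : ((Ce t).subgroupOf D).Normal := have := PGrp.isMulCommutative_of_isCyclic h.cyc; inferInstance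
  have h1 : Commute (k ^ (Ce t).relIndex D) t := mem_cent.1 (pow_index_mem (H := (Ce t).subgroupOf D) ⟨k, hk⟩)
  rw [h.cj.fixed_iff (h.ν0 hk), ← h.sec.χ_pow (mul_mem hk (inv_mem (h.td hk))), ← h.a_eq, Nat.add_sub_cancel,
    (h.comm hk (inv_mem (h.td hk))).mul_pow, inv_pow]
  nth_rw 3 [← h.t_inv]
  rw [conj_pow, ← h1.eq, mul_inv_cancel_right, mul_inv_cancel, h.sec.χ_one]

theorem ν_surj {s : E} (h0 : s ≠ 0) (hs : σ s = s) : ∃ k ∈ D, l (k * (t * k * t)⁻¹) = s := by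
  have := h.cj.finite
  have e1 : ∀ k : G, k * t * k⁻¹ * t = k * (t * k * t)⁻¹ := fun k => by simp [mul_assoc, h.t_inv]
  obtain ⟨_, ⟨k, hk, rfl⟩, e⟩ := surj_of_inj_of_card_le (p := fun j => ∃ k ∈ D, j = k * t * k⁻¹)
    (q := fun s => s ≠ 0 ∧ σ s = s) (fun j => l (j * t)) (fun _ ⟨k, hk, e⟩ => by rw [e, e1]; exact ⟨h.ν0 hk, h.ν_real hk⟩)
    (fun _ _ ⟨k, hk, e⟩ ⟨k', hk', e'⟩ e2 => mul_right_cancel (h.l_inj' (by rw [e, e1]; exact mul_mem hk (inv_mem (h.td hk)))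
      (by rw [e', e1]; exact mul_mem hk' (inv_mem (h.td hk'))) e2))
    (by rw [h.cj.card_fixed_ne_zero, card_orb, ← h.a_eq, Nat.add_sub_cancel]) s ⟨h0, hs⟩
  exact ⟨k, hk, e1 k ▸ e⟩

theorem real_K {s : E} (h0 : s ≠ 0) (hs : σ s = s) : ∃ k ∈ D, l k = s ∧ t * k * t = k⁻¹ := by
  obtain ⟨k, hk, rfl⟩ := h.ν_surj h0 hs
  refine ⟨_, mul_mem hk (inv_mem (h.td hk)), rfl, ?_⟩
  simp [mul_assoc, h.t_inv, h.ttx, h.t2]

theorem v_conj {k x : G} (hk : k ∈ D) (hx : x ∈ Q) : v (k * x * k⁻¹) = l (k * (t * k * t)⁻¹) * v x := by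
  by_cases h1 : x = 1
  · simp [h1, h.v1]
  by_cases h0 : x ∈ Q ⊓ Ce i
  · rw [h.vC _ (h.cc hk h0) (by simpa using h1), h.vC x h0 h1, (h.H3 hx h1 hk).2.1,
      h.sec.χ_mul (mul_mem hk (inv_mem (h.td hk))) (h.ηD hx h1)]
  have h2 := h.vQ _ (h.cd hk hx) fun e => h0 (by simpa [mul_assoc] using h.cc (inv_mem hk) e)
  rw [(h.H3 hx h1 hk).1, h.sec.conj _ (h.td hk) _ (h.fQ hx h1), h.sec.conj k hk x hx, ← h.ν_mul hk] at h2
  refine mul_right_cancel₀ (mul_ne_zero (h.sec.χ_ne (h.td hk)) (h.ρf0 hx h0)) ?_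
  linear_combination h2 - l (k * (t * k * t)⁻¹) * l (t * k * t) * h.vQ x hx h0

theorem vi {x : G} (hx : x ∈ Q) : v (i * x * i⁻¹) = v x := by
  rw [h.v_conj h.iD hx, h.tct h.it, mul_inv_cancel, h.sec.χ_one, one_mul]

theorem v0 {x : G} (hx : x ∈ Q) (h1 : x ≠ 1) : v x ≠ 0 := fun e => by
  by_cases h0 : x ∈ Q ⊓ Ce i
  · exact h.sec.χ_ne (h.ηD hx h1) (h.vC x h0 h1 ▸ e)
  · exact h.ρ0 hx h0 (by simpa [e] using h.vQ x hx h0)

theorem vl {z : G} (hz : z ∈ Q ⊓ Ce i) (z1 : z ≠ 1) : v z * l (t * η z * t) = -1 := by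
  rw [h.vC z hz z1, ← h.sec.χ_mul (h.ηD hz.1 z1) (h.td (h.ηD hz.1 z1)), h.ηη hz z1, h.li]

theorem σv {z : G} (hz : z ∈ Q ⊓ Ce i) : σ (v z) = -v z := by
  by_cases z1 : z = 1
  · simp [z1, h.v1]
  have h1 := h.ηD hz.1 z1
  have h2 : l (η z * (t * η z * t)⁻¹) = -(v z * v z) := by
    refine mul_right_cancel₀ (h.sec.χ_ne (h.td h1)) ?_
    rw [h.ν_mul h1, ← h.vC z hz z1]; linear_combination v z * h.vl hz z1
  have h3 := h.ν_real h1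
  rw [h2, map_neg, map_mul, neg_inj] at h3
  refine (mul_self_eq_mul_self_iff.1 h3).resolve_left fun e => ?_
  obtain ⟨k, hk, e1, e2⟩ := h.real_K (h.v0 hz.1 z1) e
  have := h.ηη hz z1
  rw [← h.l_inj' hk h1 (e1.trans (h.vC z hz z1)), e2, mul_inv_cancel] at this
  exact ne_one_of_two h.i2 this.symm

theorem v_invC {z : G} (hz : z ∈ Q ⊓ Ce i) : v z⁻¹ = -v z := by
  by_cases z1 : z = 1
  · simp [z1, h.v1]
  rw [h.vC _ (inv_mem hz) (inv_ne_one.2 z1), (h.H1 hz.1 z1).2.1, h.sec.χ_inv (h.td (h.ηD hz.1 z1))]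
  exact inv_eq_of_mul_eq_one_left (by linear_combination -h.vl hz z1)

theorem vf {x : G} (hx : x ∈ Q) (h1 : x ≠ 1) : v (f x) * v x = 1 := by
  by_cases h0 : x ∈ Q ⊓ Ce i
  · rw [h.vC _ (h.fC h0 h1) (h.f1 hx h1), (h.H2 hx h1).2.1, h.sec.χ_inv (h.ηD hx h1), h.vC x h0 h1,
      inv_mul_cancel₀ (h.sec.χ_ne (h.ηD hx h1))]
  have h2 := h.vQ _ (h.fQ hx h1) (h.f_notC hx h0)
  rw [(h.H2 hx h1).1] at h2
  refine mul_right_cancel₀ (h.ρf0 hx h0) ?_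
  linear_combination v (f x) * h.vQ x hx h0 - h2

theorem vρ {x : G} (hx : x ∈ Q) (h1 : x ≠ 1) : v x * ρ (f x) = -ρ x := by
  by_cases h0 : x ∈ Q ⊓ Ce i
  · rw [h.sec.zero h0, h.sec.zero (h.fC h0 h1), mul_zero, neg_zero]
  exact h.vQ x hx h0

theorem v_surj {κ : E} (hκ : σ κ = -κ) : ∃ z ∈ Q ⊓ Ce i, v z = κ := by
  by_cases h0 : κ = 0
  · exact ⟨1, one_mem _, h0 ▸ h.v1⟩
  obtain ⟨z, hz, z1⟩ := h.exC
  obtain ⟨k, hk, e⟩ := h.ν_surj (div_ne_zero h0 (h.v0 hz.1 z1)) (by rw [map_div₀, hκ, h.σv hz, neg_div_neg_eq])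
  exact ⟨_, h.cc hk hz, by rw [h.v_conj hk hz.1, e, div_mul_cancel₀ _ (h.v0 hz.1 z1)]⟩

theorem rel_C {z u : G} (hz : z ∈ Q ⊓ Ce i) (z1 : z ≠ 1) (hu : u ∈ Q) (h0 : u ∉ Q ⊓ Ce i) :
    v z * ρ (f (z * u)) = -ρ (f (f z * f u)) := by
  have h1 := h.mulC (h.fC hz z1) (h.f_notC hu h0)
  have h2 := h.fQ (mul_mem (h.fQ hz.1 z1) (h.fQ hu (h.ne1 h0))) (h.ne1 h1)
  rw [h.H4 hz.1 z1 hu (h.ne1 h0) (h.gC hz z1 ▸ h.ne1 h1), h.gC hz z1, h.sec.mul_left (h.fC hz z1)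
    (h.cd (h.td (h.ηD hz.1 z1)) h2), h.sec.conj _ (h.td (h.ηD hz.1 z1)) _ h2, ← mul_assoc, h.vl hz z1, neg_one_mul]

theorem rel_i {w u : G} (hw : w ∈ Q) (w1 : w ≠ 1) (e : η w = i) (hu : u ∈ Q) (u1 : u ≠ 1) (h1 : g w * f u ≠ 1) :
    ρ (f (w * u)) = ρ (f w) - ρ (f (g w * f u)) := by
  have h2 := h.fQ (mul_mem (h.gQ hw w1) (h.fQ hu u1)) h1
  rw [h.H4 hw w1 hu u1 h1, e, h.tct h.it, h.sec.add _ (h.fQ hw w1) _ (h.cd h.iD h2), h.sec.conj _ h.iD _ h2, h.li]; ring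

theorem cube {κ : E} (hκ : σ κ = -κ) : 1 - κ ^ 3 ≠ 0 := fun e => h.two (by
  have := congrArg σ e
  rw [map_sub, map_one, map_pow, hκ, map_zero] at this
  linear_combination this + e)

theorem fixY {w : G} (hw : w ∈ Q) (w1 : w ≠ 1) (e : f w = w) :
    Yi Q i w ∧ g w = w ∧ ∀ z ∈ Q ⊓ Ce i, ρ (f (z * w)) * (1 - v z) = ρ w := by
  have w0 : w ∉ Q ⊓ Ce i := fun e1 => h.notC e1 w1 e
  have h1 := h.fix_η hw w1 e
  have h2 := (h.H2 hw w1).2.2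
  obtain ⟨h3, h4, h5⟩ := h.H1 hw w1
  obtain ⟨h6, h7, h8⟩ := h.H3 (inv_mem hw) (inv_ne_one.2 w1) h.iD
  rw [e, h1] at h2
  rw [h.tct h.it] at h6 h7 h8
  rw [h3, ← h2] at h6
  rw [h4, h1, h.tct h.it, mul_inv_cancel, one_mul] at h7
  replace h7 := h7.trans h.i_inv
  rw [h5, e] at h8
  set u := i * w⁻¹ * i⁻¹ with hu0
  have hu : u ∈ Q := h.cd h.iD (inv_mem hw)
  have ρu : ρ u = ρ w := by rw [h.sec.conj i h.iD _ (inv_mem hw), h.li, h.sec.inv hw]; ring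
  have u0 : u ∉ Q ⊓ Ce i := fun e => h.ρ0 hw w0 (ρu ▸ h.sec.zero e)
  have u1 := h.ne1 u0
  have g0 : g w ∉ Q ⊓ Ce i := h6 ▸ h.f_notC hu u0
  have gQ := h.gQ hw w1
  have r2 : ∀ z ∈ Q ⊓ Ce i, z ≠ 1 → ρ (f (z * w)) = ρ w + v z * ρ (f (z * u)) := fun z hz z1 => by
    have a1 := h.rel_i hw w1 h1 hz.1 z1 (by rw [← (h.CZ (h.fC hz z1) gQ).eq]; exact h.ne1 (h.mulC (h.fC hz z1) g0))
    have a2 := h.rel_C (h.fC hz z1) (h.f1 hz.1 z1) gQ g0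
    rw [(h.H2 hz.1 z1).1, ← h6, (h.H2 hu u1).1, h6] at a2
    rw [← (h.CZ hz hw).eq, ← (h.CZ (h.fC hz z1) gQ).eq, e] at a1
    linear_combination a1 - v z * a2 + ρ (f (f z * g w)) * h.vf hz.1 z1
  have r3 : ∀ z ∈ Q ⊓ Ce i, z ≠ 1 → ρ (f (z * u)) * (1 - v z ^ 3) = ρ (g w) + ρ w * v z + ρ w * v z ^ 2 := fun z hz z1 => by
    have a1 := h.rel_i hu u1 h7 hz.1 z1 (by rw [h8, ← (h.CZ (h.fC hz z1) hu).eq]; exact h.ne1 (h.mulC (h.fC hz z1) u0))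
    rw [h8, h6, ← (h.CZ hz hu).eq, ← (h.CZ (h.fC hz z1) hu).eq] at a1
    have a2 := h.rel_C hz z1 hw w0
    rw [e, r2 z hz z1, r2 _ (h.fC hz z1) (h.f1 hz.1 z1)] at a2
    linear_combination a1 - v z * a2 + ρ (f (f z * u)) * h.vf hz.1 z1
  have hd : u * w⁻¹ ∈ Q ⊓ Ce i := (h.sec.ker _ (mul_mem hu (inv_mem hw))).1 (by
    rw [h.sec.add _ hu _ (inv_mem hw), h.sec.inv hw, ρu, add_neg_cancel])
  have d1 : u * w⁻¹ = 1 := by_contra fun d1 => by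
    have a1 := r2 _ hd d1
    have a2 := r3 _ hd d1
    have a3 := r3 _ (inv_mem hd) (inv_ne_one.2 d1)
    have a4 := h.σv hd
    have a5 := h.v0 hd.1 d1
    rw [inv_mul_cancel_right, h6] at a1
    rw [h.v_invC hd, mul_inv_rev, inv_inv, inv_mul_cancel_right, e] at a3
    generalize v (u * w⁻¹) = k at *
    have a6 : -3 + k - 2 * k ^ 2 + k ^ 3 - k ^ 4 = 0 := mul_left_cancel₀ (mul_ne_zero (h.ρ0 hw w0) (pow_ne_zero 2 a5)) (by
      linear_combination (1 - k - k ^ 3) * a3 + (1 - k ^ 3) * a1 + k * a2)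
    have a7 := congrArg σ a6
    simp only [map_sub, map_add, map_mul, map_pow, map_neg, map_ofNat, map_zero, a4] at a7
    have a8 : 1 + k ^ 2 = 0 := mul_left_cancel₀ (mul_ne_zero h.two a5) (by linear_combination a6 - a7)
    exact h.two (by linear_combination -a6 + (k - 1 - k ^ 2) * a8)
  rw [mul_inv_eq_one] at d1
  have a1 : g w = w := by rw [← h6, d1, e]
  refine ⟨⟨hw, by rw [← inv_inj, conj_inv, inv_inv]; exact d1⟩, a1, fun z hz => ?_⟩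
  by_cases z1 : z = 1
  · simp [z1, h.v1, e]
  have a2 := r3 z hz z1
  rw [d1, a1] at a2
  exact mul_right_cancel₀ (h.cube (h.σv hz)) (by linear_combination (1 - v z) * a2)

theorem exists_fix {y : G} (hy : Yi Q i y) (y1 : y ≠ 1) : ∃ k ∈ D, ∃ w ∈ Q, w ≠ 1 ∧ f w = w ∧ y = k * w * k⁻¹ := by
  have key : ∀ a, OU.Pr B Q D i t a → ∃ k ∈ D, ∃ w ∈ Q, w ≠ 1 ∧ f w = w ∧ a.2 = k * w * k⁻¹ := fun a ha => by
    obtain ⟨k, hk, e⟩ := h.transJ ha.1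
    have h1 := h.cd (inv_mem hk) ha.2.1
    have h2 := (h.fix_iff h1).1 (by
      rw [← h.smul_D (inv_mem hk), eq_inv_smul_iff, ← mul_smul, ← mul_smul, ← e, ha.2.2])
    exact ⟨k, hk, _, h1, h2.1, h2.2, by group⟩
  have key2 : ∀ a, OU.Pr B Q D i t a → Yi Q i a.2 ∧ a.2 ≠ 1 := fun a ha => by
    obtain ⟨k, hk, w, hw, w1, e, e1⟩ := key a ha
    exact e1 ▸ ⟨h.cy hk (h.fixY hw w1 e).1, by simpa using w1⟩
  obtain ⟨a, ha, rfl⟩ := surj_of_inj_of_card_le (q := fun y => Yi Q i y ∧ y ≠ 1) Prod.snd key2 (fun a b ha hb e => by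
    have h1 : a.1 * b.1⁻¹ ∈ D := by simpa [mul_assoc] using mul_mem ha.1.1 (inv_mem hb.1.1)
    refine Prod.ext (mul_inv_eq_one.1 (h.semiY h1 (key2 a ha).1 (key2 a ha).2 ((h.fix_D h1 ha.2.1).1 ?_))) e
    rw [mul_smul, inv_smul_eq_iff.2 (e ▸ hb.2.2).symm, ha.2.2])
    (card_eq_of_bij (OU.ψ i t) (fun _ => h.ψ_mem) (fun _ _ => h.ψ_inj) fun y e => h.ψ_surj e.1 e.2).ge y ⟨hy, y1⟩
  exact key a ha

theorem v_fix {w z : G} (hw : w ∈ Q) (w1 : w ≠ 1) (e : f w = w) (hz : z ∈ Q ⊓ Ce i) : v (z * w) = v z - 1 := by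
  have w0 := h.mulC hz fun e1 => h.notC e1 w1 e
  have h1 := h.vQ _ (mul_mem hz.1 hw) w0
  rw [h.sec.mul_left hz hw] at h1
  exact mul_right_cancel₀ (h.ρf0 (mul_mem hz.1 hw) w0) (by linear_combination h1 + (h.fixY hw w1 e).2.2 z hz)

theorem vY {y : G} (hy : Yi Q i y) : σ (v y) = v y ∧ ∀ z ∈ Q ⊓ Ce i, v (z * y) = v z + v y := by
  by_cases y1 : y = 1
  · simp [y1, h.v1]
  obtain ⟨k, hk, w, hw, w1, e, rfl⟩ := h.exists_fix hy y1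
  have h1 := h.v_fix hw w1 e (one_mem _)
  rw [one_mul, h.v1] at h1
  rw [h.v_conj hk hw, h1]
  refine ⟨by rw [map_mul, h.ν_real hk]; simp, fun z hz => ?_⟩
  have h2 := h.cc (inv_mem hk) hz
  rw [show z = k * (k⁻¹ * z * k⁻¹⁻¹) * k⁻¹ by group, conj_mul, h.v_conj hk (mul_mem h2.1 hw), h.v_conj hk h2.1,
    h.v_fix hw w1 e h2]
  ring

theorem vadd {z x : G} (hz : z ∈ Q ⊓ Ce i) (hx : x ∈ Q) : v (z * x) = v z + v x := by
  have tr : ∀ z ∈ Q ⊓ Ce i, ∀ x ∈ Q, σ (v (z * x) - v z - v x) = -(v (z * x) - v z - v x) := fun z hz x hx => by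
    obtain ⟨c, hc, y, hy, rfl⟩ := h.dQ hx
    rw [← mul_assoc, (h.vY hy).2 _ (mul_mem hz hc), (h.vY hy).2 _ hc]
    simp only [map_sub, map_add, h.σv hz, h.σv hc, h.σv (mul_mem hz hc)]; ring
  have key : ∀ z ∈ Q ⊓ Ce i, ∀ x ∈ Q, x ∉ Q ⊓ Ce i → v (z * x) = v z + v x := fun z hz x hx h0 => by
    by_cases z1 : z = 1
    · simp [z1, h.v1]
    have x1 := h.ne1 h0
    have a1 := h.vQ _ (mul_mem hz.1 hx) (h.mulC hz h0)
    have a2 := h.vQ _ (mul_mem (h.fC hz z1).1 (h.fQ hx x1)) (h.mulC (h.fC hz z1) (h.f_notC hx h0))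
    rw [h.sec.mul_left hz hx] at a1
    rw [h.sec.mul_left (h.fC hz z1) (h.fQ hx x1)] at a2
    have a3 : v (z * x) = v z * v x * v (f z * f x) := mul_right_cancel₀ (h.ρf0 (mul_mem hz.1 hx) (h.mulC hz h0)) (by
      linear_combination a1 - h.vQ x hx h0 + v x * a2 - v x * v (f z * f x) * h.rel_C hz z1 hx h0)
    have a4 := tr z hz x hx
    have a5 := tr _ (h.fC hz z1) _ (h.fQ hx x1)
    have a6 : v (z * x) - v z - v x = v z * v x * (v (f z * f x) - v (f z) - v (f x)) := by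
      linear_combination a3 + v x * h.vf hz.1 z1 + v z * h.vf hx x1
    rw [a6, map_mul, map_mul, a5, h.σv hz] at a4
    obtain ⟨c, hc, y, hy, rfl⟩ := h.dQ hx
    have a7 : v (c * y) + σ (v (c * y)) ≠ 0 := by
      rw [(h.vY hy).2 c hc, map_add, h.σv hc, (h.vY hy).1, show v c + v y + (-v c + v y) = 2 * v y by ring]
      exact mul_ne_zero h.two (h.v0 hy.1 fun e => h0 (by rwa [e, mul_one]))
    have a8 : v (f z * f (c * y)) - v (f z) - v (f (c * y)) = 0 :=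
      mul_left_cancel₀ (mul_ne_zero (h.v0 hz.1 z1) a7) (by linear_combination a4)
    linear_combination a6 + v z * v (c * y) * a8
  by_cases h0 : x ∈ Q ⊓ Ce i
  swap; · exact key z hz x hx h0
  obtain ⟨y, hy, y1⟩ := h.exists_Y
  have := key z hz _ (mul_mem hx hy.1) (h.mulC h0 (h.Y_notC hy y1))
  rw [← mul_assoc, (h.vY hy).2 _ (mul_mem hz h0), (h.vY hy).2 _ h0] at this
  linear_combination this

end OW

end Cfsg.Lib.OU
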